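import Cfsg.Agent.H899.Pt.Even2

/-!
# Factorizations: elements of order `r` of the factors, general representation (helper899, S3679)

* `Env` : `G → T` (central kernel of exponent two), `G ≤ GL(V)`, `r` a prime with `ord_r(q) = n ≥ 3`, `dim V ≤ 2 n + 1`;
* `Env.dich` : the elements of order `r` of `S₁`, `S₂` all have `dim [V, x] = n`, or all have `dim [V, x] = 2 n`;
* `noR` : if the elements of order `r` of `S₁` and `S₂` are `T`-conjugate (up to powers) and `T = A M`, `M` without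
  `C_r × C_r`, then `M` contains no element of order `r` of `S₁` or `S₂`;
* `noR'` : nor any element of order `r` conjugate to an element of `S₁` or `S₂`.
-/

set_option autoImplicit false
set_option linter.unusedSectionVars false
set_option linter.unusedVariables false

namespace Cfsg.Agent.H899.Pt

open Module Cfsg.Agent.H951 Cfsg.Agent.H884.Cg Cfsg.Agent.H899.CG

section Conj

variable {T : Type*} [Group T] [Finite T] {A M S₁ S₂ : Subgroup T} {r : ℕ}

/-- no element of order `r` of `S₁` in `M` -/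
theorem noR (hr : r.Prime) (hS : TwoFac A S₁ S₂) (hf : ∀ t : T, ∃ a ∈ A, ∃ m ∈ M, t = a * m) (hM : NoSq M r)
    (hd : r ∣ Nat.card S₂)
    (hc : ∀ x ∈ S₂, ∀ y ∈ S₁, orderOf x = r → orderOf y = r → ∃ t : T, t * y * t⁻¹ ∈ Subgroup.zpowers x) :
    ∀ y ∈ S₁, y ∈ M → orderOf y ≠ r := by
  intro y hy hyM hyr
  have := Fact.mk hr
  obtain ⟨x, hx⟩ := exists_prime_orderOf_dvd_card' r hd
  obtain ⟨t, ht⟩ := hc x x.2 y hy (by rw [Subgroup.orderOf_coe, hx]) hyr
  have h1 : t * y * t⁻¹ ∈ S₂ := (Subgroup.zpowers_le.2 x.2) ht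
  obtain ⟨a, ha, hay⟩ := gp hr hf hM (hS.le₁ hy) hyM hyr (hS.le₂ h1)
  have h2 : a * y * a⁻¹ ∈ S₂ := (Subgroup.zpowers_le.2 h1) hay
  have h3 := hS.inf (hS.norm₁ a ha y hy) h2
  rw [mul_inv_eq_one] at h3
  have h4 : y = 1 := by
    have : a * y = a * 1 := by rw [h3, mul_one]
    exact mul_left_cancel this
  rw [h4, orderOf_one] at hyr
  exact hr.one_lt.ne hyr

theorem _root_.Cfsg.Agent.H899.Pt.NoSq.conj (h : NoSq M r) (g : T) :
    NoSq (M.map (MulAut.conj g).toMonoidHom) r := by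
  rintro _ ⟨x, hx, rfl⟩ _ ⟨y, hy, rfl⟩ hxr hyr hc
  have hi : Function.Injective (MulAut.conj g).toMonoidHom := (MulAut.conj g).injective
  rw [orderOf_injective _ hi] at hxr hyr
  have h1 : x * y = y * x := hi (by rw [map_mul, map_mul]; exact hc)
  obtain ⟨k, hk⟩ := Subgroup.mem_zpowers_iff.1 (h x hx y hy hxr hyr h1)
  exact Subgroup.mem_zpowers_iff.2 ⟨k, by rw [← map_zpow, hk]⟩

/-- no element of `M` is conjugate to an element of order `r` of `S₁` -/
theorem noR' {S : Type*} [Group S] {l : ℕ} (hr : r.Prime) (hS : TwoFac A S₁ S₂) (hf : Fac T A M S l) (hM : NoSq M r)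
    (hd : r ∣ Nat.card S₂)
    (hc : ∀ x ∈ S₂, ∀ y ∈ S₁, orderOf x = r → orderOf y = r → ∃ t : T, t * y * t⁻¹ ∈ Subgroup.zpowers x)
    {y t : T} (hy : y ∈ S₁) (hyr : orderOf y = r) : t * y * t⁻¹ ∉ M := by
  intro hyM
  refine noR hr hS (hf.conj t⁻¹).fac (hM.conj t⁻¹) hd hc y hy ⟨t * y * t⁻¹, hyM, ?_⟩ hyr
  show t⁻¹ * (t * y * t⁻¹) * t⁻¹⁻¹ = y
  group

end Conj

variable {T G : Type*} [Group T] [Group G] {F : Type*} [Field F] [Fintype F] {V : Type*} [AddCommGroup V] [Module F V]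
  [FiniteDimensional F V]

/-- the data -/
structure Env (r n : ℕ) (π : G →* T) (ρ : G →* Module.End F V) : Prop where
  rd : RD F r n
  n3 : 3 ≤ n
  surj : Function.Surjective π
  ker : ∀ k, π k = 1 → k ^ 2 = 1 ∧ ∀ g, k * g = g * k
  inj : Function.Injective ρ
  dim : finrank F V ≤ 2 * n + 1

variable {r n : ℕ} {π : G →* T} {ρ : G →* Module.End F V} {A S₁ S₂ : Subgroup T}

theorem Env.odd (h : Env r n π ρ) : Odd r := h.rd.prime.odd_of_ne_two (by have := h.rd.two_lt; omega)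

theorem Env.rpow (h : Env r n π ρ) {x : G} (hx : x ^ r = 1) : ρ x ^ r = 1 := by rw [← map_pow, hx, map_one]

theorem Env.rne (h : Env r n π ρ) {x : G} (hx : x ≠ 1) : ρ x ≠ 1 := fun h1 => hx (h.inj (by rw [h1, map_one]))

theorem Env.pne (h : Env r n π ρ) {x : G} (hx : x ^ r = 1) (hx1 : x ≠ 1) : π x ≠ 1 := by
  intro h1
  obtain ⟨h2, -⟩ := h.ker x h1
  obtain ⟨j, hj⟩ := h.odd
  apply hx1
  rw [hj, pow_succ, pow_mul, h2, one_pow, one_mul] at hx
  exact hx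

theorem Env.porder (h : Env r n π ρ) {x : G} (hx : x ^ r = 1) (hx1 : x ≠ 1) : orderOf (π x) = r := by
  have := Fact.mk h.rd.prime
  exact orderOf_eq_prime (by rw [← map_pow, hx, map_one]) (h.pne hx hx1)

theorem Env.comm (h : Env r n π ρ) {g x : G} (hx : x ^ r = 1) (hc : π x * π g = π g * π x) : x * g = g * x :=
  comm_lift h.odd π h.ker hx hc

theorem Env.comm' (h : Env r n π ρ) {g x : G} (hx : x ^ r = 1) (hc : π x * π g = π g * π x) :
    Commute (ρ x) (ρ g) := by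
  show ρ x * ρ g = ρ g * ρ x
  rw [← map_mul, h.comm hx hc, map_mul]

theorem Env.lift (h : Env r n π ρ) {t : T} (ht : t ^ r = 1) : ∃ g, π g = t ∧ g ^ r = 1 := by
  obtain ⟨g, rfl⟩ := h.surj t
  obtain ⟨j, hj⟩ := h.odd
  refine ⟨g ^ (r + 1), by rw [map_pow, pow_succ, ht, one_mul], ?_⟩
  have h1 := (h.ker (g ^ r) (by rw [map_pow, ht])).1
  rw [← pow_mul, mul_comm, pow_mul, show r + 1 = 2 * (j + 1) by omega, pow_mul, h1, one_pow]

theorem Env.lift_ne (h : Env r n π ρ) {t : T} (ht : orderOf t = r) :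
    ∃ g, π g = t ∧ g ^ r = 1 ∧ g ≠ 1 := by
  obtain ⟨g, h1, h2⟩ := h.lift (t := t) (by rw [← ht, pow_orderOf_eq_one])
  refine ⟨g, h1, h2, ?_⟩
  rintro rfl
  rw [map_one] at h1
  rw [← h1, orderOf_one] at ht
  exact h.rd.prime.one_lt.ne ht

theorem Env.injE (h : Env r n π ρ) (g : G) : Function.Injective (ρ g) := by
  intro u v huv
  have h1 := congrArg (ρ g⁻¹) huv
  rwa [← Module.End.mul_apply, ← Module.End.mul_apply, ← map_mul, inv_mul_cancel, map_one] at h1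

/-- the type -/
theorem Env.type (h : Env r n π ρ) {x : G} (hx : x ^ r = 1) (hx1 : x ≠ 1) :
    finrank F (cm (ρ x)) = n ∨ finrank F (cm (ρ x)) = 2 * n := by
  obtain ⟨k, hk⟩ := h.rd.dvd_cm (h.rpow hx)
  have h1 := h.rd.le_cm (h.rpow hx) (h.rne hx1)
  have h2 : finrank F (cm (ρ x)) ≤ finrank F V := Submodule.finrank_le _
  have hn3 := h.n3
  have hd := h.dim
  have h3 : k < 3 := by
    by_contra hcon
    have := Nat.mul_le_mul_left n (show 3 ≤ k by omega)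
    omega
  have h4 : k ≠ 0 := by
    rintro rfl
    omega
  have h5 : k = 1 ∨ k = 2 := by omega
  rcases h5 with rfl | rfl
  · left; omega
  · right; omega

/-- `x ∈ S₂`, `y ∈ S₁` of order `r`, `Z` invariant of dimension `n`, `x` fixed point free on `Z`: `y` is trivial
on `Z`. -/
theorem Env.triv (h : Env r n π ρ) (hS : TwoFac A S₁ S₂) {x y : G} (hx : π x ∈ S₂) (hxr : x ^ r = 1)
    (hy : π y ∈ S₁) (hyr : y ^ r = 1) {Z : Submodule F V} (hZx : Inv (ρ x) Z)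
    (hZ : ∀ g, π g ∈ S₁ → Inv (ρ g) Z) (hd : finrank F Z = n) (hf : Z ⊓ fx (ρ x) = ⊥) : Z ≤ fx (ρ y) := by
  have hxy : Commute (ρ y) (ρ x) := (h.comm' hxr (hS.comm _ hy _ hx).symm).symm
  obtain ⟨i, hi, hZi⟩ := h.rd.exists_triv (h.rpow hyr) (h.rpow hxr) hxy (hZ y hy) hZx hd hf
  refine lemC h.odd π h.surj h.ker ρ hS.simple₁ hS.na₁ hy hyr hZ fun g hg v hv => ?_
  -- `ρ y = ρ (x ^ i)⁻¹` on `Z`
  have key : ∀ w ∈ Z, ρ y w = ρ (x ^ i)⁻¹ w := by
    intro w hw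
    have h1 := mem_fx.1 (hZi hw)
    rw [← map_pow, ← map_mul] at h1
    have h2 : y * x ^ i = x ^ i * y := by
      have h3 := h.comm hxr (hS.comm _ hy _ hx).symm
      exact ((show Commute x y from h3).pow_left i).symm
    rw [h2, map_mul, Module.End.mul_apply] at h1
    conv_rhs => rw [← h1]
    rw [← Module.End.mul_apply, ← map_mul, inv_mul_cancel, map_one]
    rfl
  have hgx : g * (x ^ i)⁻¹ = (x ^ i)⁻¹ * g := by
    have h3 := h.comm hxr (hS.comm _ hg _ hx).symm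
    exact (((show Commute x g from h3).pow_left i).inv_left.symm).eq
  rw [map_mul, map_mul, Module.End.mul_apply, Module.End.mul_apply, key _ (hZ g hg v hv), key v hv,
    ← Module.End.mul_apply, ← Module.End.mul_apply, ← map_mul, ← map_mul, hgx]

/-- one element `x ∈ S₂` of type `n`: `S₁` (its elements of order `r`) is trivial on `[V, x]`, of type `n` -/
theorem Env.small (h : Env r n π ρ) (hS : TwoFac A S₁ S₂) {x y : G} (hx : π x ∈ S₂) (hxr : x ^ r = 1)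
    (hdx : finrank F (cm (ρ x)) = n) (hy : π y ∈ S₁) (hyr : y ^ r = 1) (hy1 : y ≠ 1) :
    cm (ρ x) ≤ fx (ρ y) ∧ cm (ρ y) ≤ fx (ρ x) ∧ finrank F (cm (ρ y)) = n := by
  have h1 : cm (ρ x) ≤ fx (ρ y) := by
    refine h.triv hS hx hxr hy hyr inv_cm (fun g hg => ?_) hdx (inf_fx_of_le_cm h.rd.ne0 (h.rpow hxr) le_rfl)
    exact inv_cm_of_commute (h.comm' hxr (hS.comm _ hg _ hx).symm).symm
  have h2 : cm (ρ y) ≤ fx (ρ x) :=
    cm_le_fx h.rd.ne0 (h.rpow hxr) (h.comm' hxr (hS.comm _ hy _ hx).symm).symm h1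
  refine ⟨h1, h2, ?_⟩
  have h3 := Submodule.finrank_mono h2
  have h4 := finrank_fx_add_cm h.rd.ne0 (h.rpow hxr)
  have hn3 := h.n3
  have hd := h.dim
  rcases h.type hyr hy1 with h5 | h5
  · exact h5
  · omega

/-- **dichotomy** -/
theorem Env.dich [Finite T] (h : Env r n π ρ) (hS : TwoFac A S₁ S₂) (hd₁ : r ∣ Nat.card S₁) (hd₂ : r ∣ Nat.card S₂) :
    (∀ x, π x ∈ S₁ ∨ π x ∈ S₂ → x ^ r = 1 → x ≠ 1 → finrank F (cm (ρ x)) = n) ∨
      (∀ x, π x ∈ S₁ ∨ π x ∈ S₂ → x ^ r = 1 → x ≠ 1 → finrank F (cm (ρ x)) = 2 * n) := by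
  have hF := Fact.mk h.rd.prime
  obtain ⟨x₀, hx₀⟩ := exists_prime_orderOf_dvd_card' r hd₂
  obtain ⟨x, hx, hxr, hx1⟩ := h.lift_ne (t := (x₀ : T)) (by rw [Subgroup.orderOf_coe, hx₀])
  have hxS : π x ∈ S₂ := by rw [hx]; exact x₀.2
  obtain ⟨y₀, hy₀⟩ := exists_prime_orderOf_dvd_card' r hd₁
  obtain ⟨y, hy, hyr, hy1⟩ := h.lift_ne (t := (y₀ : T)) (by rw [Subgroup.orderOf_coe, hy₀])
  have hyS : π y ∈ S₁ := by rw [hy]; exact y₀.2
  have hn3 := h.n3
  by_cases hex : ∃ z, (π z ∈ S₁ ∨ π z ∈ S₂) ∧ z ^ r = 1 ∧ z ≠ 1 ∧ finrank F (cm (ρ z)) = n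
  · left
    obtain ⟨z, hzS, hzr, hz1, hzd⟩ := hex
    -- both `x` and `y` are of type `n`
    have hxy : finrank F (cm (ρ x)) = n ∧ finrank F (cm (ρ y)) = n := by
      rcases hzS with hzS | hzS
      · have h1 := (h.small hS.symm hzS hzr hzd hxS hxr hx1).2.2
        exact ⟨h1, (h.small hS hxS hxr h1 hyS hyr hy1).2.2⟩
      · have h1 := (h.small hS hzS hzr hzd hyS hyr hy1).2.2
        exact ⟨(h.small hS.symm hyS hyr h1 hxS hxr hx1).2.2, h1⟩
    intro w hw hwr hw1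
    rcases hw with hw | hw
    · exact (h.small hS hxS hxr hxy.1 hw hwr hw1).2.2
    · exact (h.small hS.symm hyS hyr hxy.2 hw hwr hw1).2.2
  · right
    intro w hw hwr hw1
    rcases h.type hwr hw1 with h1 | h1
    · exact absurd ⟨w, hw, hwr, hw1, h1⟩ hex
    · exact h1

end Cfsg.Agent.H899.Pt
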