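import Cfsg.Agent.H899.Pt.Even3
import Cfsg.Agent.H884.CgOrth
import Cfsg.Agent.H884.ElFin

/-!
# Factorizations by the stabiliser of a nonsingular point, VI: the groups (helper899, S3679)

* `false_pt` : `T = PΩ(Q)`, `dim V = 2 m` (plus type) or `dim V = 2 m + 1`, `m ≥ 4` even, `M` fixes a nonsingular point
  `⟨v⟩` (not of plus type if the dimension is odd): no factorization `T = A M`, `A ≅ S ^ l`, `l ≥ 2`.
-/

set_option autoImplicit false
set_option linter.unusedSectionVars false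
set_option linter.unusedVariables false

namespace Cfsg.Agent.H899.Pt

open Module QuadraticMap Cfsg Cfsg.Geo Cfsg.Agent.H884.Cg Cfsg.Agent.H955 Cfsg.Agent.LieClassical.OrthCore
open Cfsg.Agent.H954.TSing Cfsg.Agent.LieClassical.OrthTrans Cfsg.Agent.H899.CG
open Cfsg.Agent.H951 (fx cm Inv mem_fx)
open Cfsg.Agent.H884.El (pre PP exists_pp lin mem_pre exists_omega exists_g finrank_cm_conj Iso ord_eq orderOf_mk
  finrank_V lin_iso inv_of_mem)
open scoped MatrixGroups Matrix

universe u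

section Uni

variable {F : Type*} [Field F] [Fintype F] {V : Type*} [AddCommGroup V] [Module F V] [FiniteDimensional F V]

theorem exists_norm_mem {Q : QuadraticForm F V} {Z : Submodule F V} (hZ : Nondeg (res Q Z)) (h3 : 3 ≤ finrank F Z)
    (d : F) : ∃ v ∈ Z, v ≠ 0 ∧ Q v = d := by
  obtain ⟨x, hx0, hx⟩ := exists_singular (res Q Z) h3
  obtain ⟨y, hy⟩ := exists_hyp hZ hx hx0
  have hx' : Q (x : V) = 0 := hx
  have hy1 : Q (y : V) = 0 := hy.right
  have hy2 : polar Q (x : V) (y : V) = 1 := hy.pair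
  refine ⟨(x : V) + d • (y : V), Z.add_mem x.2 (Z.smul_mem d y.2), fun h => ?_, ?_⟩
  · have h1 : polar Q (y : V) ((x : V) + d • (y : V)) = 1 := by
      rw [polar_add_right, polar_smul_right, polar_self', hy1, mul_zero, smul_zero, add_zero, polar_comm, hy2]
    rw [h, polar_zero_right] at h1
    exact zero_ne_one h1
  · rw [Q_add, QuadraticMap.map_smul, hx', hy1, polar_smul_right, hy2]
    simp

end Uni

section Fix

/-- an element of prime order `r` is conjugate into every subgroup of index prime to `r` -/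
theorem exists_conj_mem {T : Type*} [Group T] [Finite T] {r : ℕ} (hr : r.Prime) {M : Subgroup T}
    (hM : ¬ r ∣ M.index) {t : T} (ht : orderOf t = r) : ∃ g : T, g⁻¹ * t * g ∈ M := by
  have := Fact.mk hr
  have hp : IsPGroup r (Subgroup.zpowers t) := IsPGroup.of_card (n := 1) (by rw [Nat.card_zpowers, ht, pow_one])
  obtain ⟨z, hz⟩ := hp.nonempty_fixed_point_of_prime_not_dvd_card (T ⧸ M) hM
  induction z using QuotientGroup.induction_on with
  | H g =>
    refine ⟨g, ?_⟩
    have h1 := hz ⟨t, Subgroup.mem_zpowers t⟩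
    have h2 : ((t * g : T) : T ⧸ M) = (g : T ⧸ M) := h1
    rw [eq_comm, QuotientGroup.eq] at h2
    rwa [← mul_assoc] at h2

end Fix

variable {ι : Type} [Fintype ι] [DecidableEq ι] {F : Type u} [Field F] [Fintype F] {Q : QuadraticForm F (ι → F)}

theorem rep_iso (g : Omega F (⇑Q)) (v : ι → F) : Q (rep (⇑Q) g v) = Q v := by
  show Q (Matrix.toLin' _ v) = Q v
  rw [Matrix.toLin'_apply]
  exact Cfsg.Agent.LieClassical.OrthFinite.mem_isometryGroup_iff.1 (g : isometryGroup F (⇑Q)).2 v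

/-- `Ω(Q)` is transitive on the vectors of norm `c ≠ 0` -/
theorem trans_omega (hQ : Nondeg Q) (h5 : 5 ≤ Fintype.card ι) {v w : ι → F} (hv : Q v ≠ 0) (hvw : Q w = Q v) :
    ∃ g : Omega F (⇑Q), rep (⇑Q) g v = w := by
  have hG : Good Q := LieClassical.OrthFinite.good_of_finite hQ (by rwa [finrank_V])
  have h0 : ∀ {z : ι → F}, Q z ≠ 0 → z ≠ 0 := by
    rintro z hz rfl
    exact hz (QuadraticMap.map_zero Q)
  obtain ⟨g, hg, hgv⟩ := hG.trans_norm (h0 hv) (h0 (by rw [hvw]; exact hv)) hvw.symm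
  rw [← hG.commutator_eq_E, ← LieClassical.OrthFinite.map_Omega] at hg
  obtain ⟨x, hx, rfl⟩ := hg
  exact ⟨⟨x, hx⟩, hgv⟩

variable {A M : Subgroup (POmega F (⇑Q))} {S : Type*} [Group S] [Finite S] {l : ℕ} {r m : ℕ} {v : ι → F}

/-- `a v = ± v` for `π a ∈ M` -/
theorem pm_of_mem (hv : Q v ≠ 0) (hM : pre (⇑Q) M ≤ subspaceStabilizer (Submodule.span F {v})) {a : Omega F (⇑Q)}
    (ha : QuotientGroup.mk' (Subgroup.center (Omega F (⇑Q))) a ∈ M) :
    rep (⇑Q) a v = v ∨ rep (⇑Q) a v = -v := by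
  have h1 := inv_of_mem (hM (mem_pre.2 ha)) v (Submodule.mem_span_singleton_self v)
  obtain ⟨s, hs⟩ := Submodule.mem_span_singleton.1 h1
  have hs' : rep (⇑Q) a v = s • v := hs.symm
  have h2 := rep_iso a v
  rw [hs', QuadraticMap.map_smul, smul_eq_mul] at h2
  have h3 : s * s = 1 := mul_right_cancel₀ hv (by rw [h2, one_mul])
  rcases mul_self_eq_one_iff.1 h3 with h4 | h4
  · left
    rw [hs', h4, one_smul]
  · right
    rw [hs', h4, neg_smul, one_smul]

theorem false_pt (hD : H390.Lift.Data Q) (hQ : Nondeg Q) (hr : PP (Nat.card F) m r) (hme : Even m) (hm : 4 ≤ m)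
    (hf : Fac (POmega F (⇑Q)) A M S l) (hS : IsSimpleGroup S) (hSna : ¬ IsMulCommutative S)
    (hv : Q v ≠ 0) (hM : pre (⇑Q) M ≤ subspaceStabilizer (Submodule.span F {v}))
    (hdim : (Fintype.card ι = 2 * m ∧ IsPlus Q) ∨ ((2 : F) ≠ 0 ∧ Fintype.card ι = 2 * m + 1 ∧
      ¬ IsPlus (res Q (perp Q (Submodule.span F {v}))))) : False := by
  have hfin : Finite (POmega F (⇑Q)) := Quotient.finite _
  have hlt := hr.lt (by omega)
  have hF := Fact.mk hr.prime
  have hr2 : r ≠ 2 := by omega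
  have hodd : Odd r := hr.prime.odd_of_ne_two hr2
  have hne := hr.ne0 (F := F) (by omega)
  have hv0 : v ≠ 0 := by
    rintro rfl
    exact hv (QuadraticMap.map_zero Q)
  have hcard : 2 * m ≤ Fintype.card ι := by omega
  have hcard' : Fintype.card ι ≤ 2 * m + 1 := by omega
  have hcoe : ∀ x : Omega F (⇑Q), rep (⇑Q) x = lin ((x : isometryGroup F (⇑Q)) : GL ι F) := fun x => rfl
  -- base: elements with large commutator space do not fix `v`
  have base : ∀ z : Omega F (⇑Q), z ^ r = 1 → 2 * m ≤ finrank F (cm (rep (⇑Q) z)) → rep (⇑Q) z v ≠ v := by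
    intro z hz hzd hzv
    have hzr : rep (⇑Q) z ^ r = 1 := by rw [← map_pow, hz, map_one]
    have hiso : Iso Q (rep (⇑Q) z) r := Iso.mk' hr (by omega) hzr (rep_iso z)
    have hadd := hiso.finrank_add
    rw [finrank_V] at hadd
    have hvf : v ∈ fx (rep (⇑Q) z) := mem_fx.2 hzv
    have hle : Submodule.span F {v} ≤ fx (rep (⇑Q) z) := by
      rw [Submodule.span_singleton_le_iff_mem]
      exact hvf
    have hs1 := finrank_span_singleton (K := F) hv0
    have hmono := Submodule.finrank_mono hle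
    rcases hdim with ⟨h1, -⟩ | ⟨-, h1, hP⟩
    · omega
    · have heq : Submodule.span F {v} = fx (rep (⇑Q) z) :=
        Submodule.eq_of_le_of_finrank_eq hle (by omega)
      rw [heq, perp_fx hQ hiso.iso hiso.ne0 hiso.pow] at hP
      exact hP (hiso.even_two hQ hr hme (by omega))
  -- conjugates
  have base' : ∀ z : Omega F (⇑Q), z ^ r = 1 → 2 * m ≤ finrank F (cm (rep (⇑Q) z)) → ∀ w, Q w = Q v →
      rep (⇑Q) z w ≠ w := by
    intro z hz hzd w hw hzw
    obtain ⟨g, hg⟩ := trans_omega hQ (by omega) hv hw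
    refine base (g⁻¹ * z * g⁻¹⁻¹) (by rw [conj_pow, hz, mul_one, mul_inv_cancel]) ?_ ?_
    · have h1 := finrank_cm_conj (F := F) ((g⁻¹ : Omega F (⇑Q)) : isometryGroup F (⇑Q)).1 (z : isometryGroup F (⇑Q)).1
      rw [hcoe] at hzd ⊢
      rw [← h1] at hzd
      exact hzd
    · rw [inv_inv, rho_mul, rho_mul, hg, hzw, ← hg, rho_inv']
  -- the data
  have hcfg : Cfg Q (Q v) r m (QuotientGroup.mk' (Subgroup.center (Omega F (⇑Q)))) (rep (⇑Q)) A := by
    refine ⟨⟨hr.prime, by omega, hne, ord_eq hr⟩, by omega, QuotientGroup.mk'_surjective _, ?_, rep_injective _,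
      rep_iso, hQ, ?_, hv, by rw [finrank_V]; exact hcard, fun Z hZ h3 d => exists_norm_mem hZ h3 d, base'⟩
    · intro k hk
      have h1 : k ∈ Subgroup.center (Omega F (⇑Q)) := (QuotientGroup.eq_one_iff k).1 hk
      exact ⟨H390.Lift.center_sq hD k h1, fun g => (Subgroup.mem_center_iff.1 h1 g).symm⟩
    · have key : ∀ w, Q w = Q v → ∃ a : Omega F (⇑Q), QuotientGroup.mk' (Subgroup.center (Omega F (⇑Q))) a ∈ A ∧
          (rep (⇑Q) a v = w ∨ rep (⇑Q) a v = -w) := by
        intro w hw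
        obtain ⟨g, hg⟩ := trans_omega hQ (by omega) hv hw
        obtain ⟨a, ha, b, hb, hab⟩ := hf.fac (QuotientGroup.mk' _ g)
        obtain ⟨a, rfl⟩ := QuotientGroup.mk'_surjective _ a
        have h1 : QuotientGroup.mk' (Subgroup.center (Omega F (⇑Q))) (a⁻¹ * g) ∈ M := by
          rw [map_mul, map_inv, hab, inv_mul_cancel_left]
          exact hb
        refine ⟨a, ha, ?_⟩
        have h2 : rep (⇑Q) (a⁻¹ * g) v = rep (⇑Q) a⁻¹ w := by rw [rho_mul, hg]
        rcases pm_of_mem hv hM h1 with h3 | h3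
        · left
          rw [h2] at h3
          rw [← h3, rho_inv]
        · right
          rw [h2] at h3
          have h4 : v = - rep (⇑Q) a⁻¹ w := by rw [h3, neg_neg]
          conv_lhs => rw [h4]
          rw [map_neg, rho_inv]
      intro u w hu hw
      obtain ⟨a, ha, hau⟩ := key u hu
      obtain ⟨b, hb, hbw⟩ := key w hw
      refine ⟨b * a⁻¹, by rw [map_mul, map_inv]; exact A.mul_mem hb (A.inv_mem ha), ?_⟩
      have h1 : rep (⇑Q) a⁻¹ u = v ∨ rep (⇑Q) a⁻¹ u = -v := by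
        rcases hau with h2 | h2
        · left; rw [← h2, rho_inv']
        · right
          have h3 : u = - rep (⇑Q) a v := by rw [h2, neg_neg]
          rw [h3, map_neg, rho_inv']
      rw [rho_mul]
      rcases h1 with h1 | h1
      · rw [h1]
        exact hbw
      · rw [h1, map_neg]
        rcases hbw with h2 | h2
        · right; rw [h2]
        · left; rw [h2, neg_neg]
  -- `r` divides `|S|`
  have hrS : r ∣ Nat.card S := by
    by_contra hn
    have hidx : ¬ r ∣ M.index := fun h => hn (hr.prime.dvd_of_dvd_pow (h.trans hf.index_dvd))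
    obtain ⟨g, hg, hgr, hg1, hgd⟩ := exists_g (A := 2) hQ hr hme (by omega) (by omega) (by
      rcases hdim with ⟨h1, h2⟩ | ⟨h1, h2, -⟩
      · exact Or.inl ⟨by rw [h1]; exact even_two_mul m, Or.inr ⟨by omega, iff_of_true h2 (by decide)⟩⟩
      · exact Or.inr ⟨h1, by omega⟩)
    obtain ⟨x, rfl⟩ := exists_omega hD hg hodd hgr
    have hx : x ^ r = 1 := Subtype.ext (Subtype.ext hgr)
    have hx1 : x ≠ 1 := by
      rintro rfl
      exact hg1 rfl
    obtain ⟨t, ht⟩ := exists_conj_mem hr.prime hidx (orderOf_mk hD hr.prime hr2 hx hx1)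
    obtain ⟨c, rfl⟩ := QuotientGroup.mk'_surjective _ t
    have hz : (c⁻¹ * x * c⁻¹⁻¹) ^ r = 1 := by rw [conj_pow, hx, mul_one, mul_inv_cancel]
    have hzM : QuotientGroup.mk' (Subgroup.center (Omega F (⇑Q))) (c⁻¹ * x * c⁻¹⁻¹) ∈ M := by
      rw [inv_inv, map_mul, map_mul, map_inv]
      exact ht
    have hzd : 2 * m ≤ finrank F (cm (rep (⇑Q) (c⁻¹ * x * c⁻¹⁻¹))) := by
      have h1 := finrank_cm_conj (F := F) ((c⁻¹ : Omega F (⇑Q)) : isometryGroup F (⇑Q)).1 (x : isometryGroup F (⇑Q)).1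
      rw [hgd] at h1
      have h2 : finrank F (cm (rep (⇑Q) (c⁻¹ * x * c⁻¹⁻¹))) = m * 2 := h1
      omega
    rcases pm_of_mem hv hM hzM with h3 | h3
    · exact base _ hz hzd h3
    · -- `z v = - v`, `z` of odd order
      have h4 : ∀ k : ℕ, rep (⇑Q) ((c⁻¹ * x * c⁻¹⁻¹) ^ (2 * k)) v = v := by
        intro k
        induction k with
        | zero => rw [mul_zero, pow_zero, map_one]; rfl
        | succ k ih =>
          rw [show 2 * (k + 1) = 2 * k + 1 + 1 by ring, pow_succ, pow_succ, rho_mul, rho_mul, h3, map_neg, h3,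
            neg_neg, ih]
      obtain ⟨k, hk⟩ := hodd
      have h5 := h4 k
      have h6 : rep (⇑Q) ((c⁻¹ * x * c⁻¹⁻¹) ^ (2 * k + 1)) v = -v := by rw [pow_succ, rho_mul, h3, map_neg, h5]
      rw [← hk, hz, map_one] at h6
      have h7 : v = -v := h6
      exact base _ hz hzd (by rw [h3, ← h7])
  obtain ⟨S₁, S₂, hT, hc1, hc2⟩ := hf.twoFac hS hSna
  have hd₁ : r ∣ Nat.card S₁ := by rw [hc1]; exact hrS
  have hd₂ : r ∣ Nat.card S₂ := by rw [hc2]; exact hrS
  rcases hdim with ⟨h1, -⟩ | ⟨h2, h1, -⟩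
  · exact hcfg.false_even hT (by rw [finrank_V, h1]) hd₁ hd₂
  · obtain ⟨x₀, hx₀⟩ := exists_prime_orderOf_dvd_card' r hd₂
    obtain ⟨x, hx, hxr, hx1⟩ := hcfg.lift_ne (t := (x₀ : POmega F (⇑Q))) (by rw [Subgroup.orderOf_coe, hx₀])
    obtain ⟨y₀, hy₀⟩ := exists_prime_orderOf_dvd_card' r hd₁
    obtain ⟨y, hy, hyr, hy1⟩ := hcfg.lift_ne (t := (y₀ : POmega F (⇑Q))) (by rw [Subgroup.orderOf_coe, hy₀])
    exact hcfg.false_odd h2 hT (by rw [finrank_V, h1]) (by rw [hx]; exact x₀.2) hxr hx1 (by rw [hy]; exact y₀.2)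
      hyr hy1

end Cfsg.Agent.H899.Pt
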