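import Cfsg.Agent.H899.Pt.Lin
import Cfsg.Agent.H899.Cyc.Fac

/-!
# Two factors of `A = S ^ l`, conjugacy inside a factorization (helper899, S3679)

* `TwoFac A S₁ S₂` : `S₁`, `S₂` commuting simple non-abelian normal factors of `A`; `Fac.twoFac`;
* `conj_of_cyc` : subgroups of order `r` of a group without `C_r × C_r` are conjugate;
* `gp` : `T = A M`, `M` without `C_r × C_r`: the `T`-conjugates in `A` of a subgroup of order `r` of `A ∩ M` are
  `A`-conjugates;
* `comm_lift` : lifts of commuting elements commute if one of them has odd order.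
-/

set_option autoImplicit false

namespace Cfsg.Agent.H899.Pt

open Subgroup Cfsg.Agent.H899.CG
open scoped Pointwise

/-- two factors of a direct power -/
structure TwoFac {T : Type*} [Group T] (A S₁ S₂ : Subgroup T) : Prop where
  le₁ : S₁ ≤ A
  le₂ : S₂ ≤ A
  simple₁ : IsSimpleGroup S₁
  simple₂ : IsSimpleGroup S₂
  na₁ : ¬ ∀ a ∈ S₁, ∀ b ∈ S₁, a * b = b * a
  na₂ : ¬ ∀ a ∈ S₂, ∀ b ∈ S₂, a * b = b * a
  comm : ∀ a ∈ S₁, ∀ b ∈ S₂, a * b = b * a
  norm₁ : ∀ a ∈ A, ∀ s ∈ S₁, a * s * a⁻¹ ∈ S₁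
  norm₂ : ∀ a ∈ A, ∀ s ∈ S₂, a * s * a⁻¹ ∈ S₂
  dec₁ : ∀ a ∈ A, ∃ s ∈ S₁, ∃ a' ∈ A, a = s * a' ∧ ∀ t ∈ S₁, t * a' = a' * t
  dec₂ : ∀ a ∈ A, ∃ s ∈ S₂, ∃ a' ∈ A, a = s * a' ∧ ∀ t ∈ S₂, t * a' = a' * t

section tf

variable {T : Type*} [Group T] {A S₁ S₂ : Subgroup T}

theorem TwoFac.symm (h : TwoFac A S₁ S₂) : TwoFac A S₂ S₁ :=
  ⟨h.le₂, h.le₁, h.simple₂, h.simple₁, h.na₂, h.na₁, fun a ha b hb => (h.comm b hb a ha).symm, h.norm₂, h.norm₁,
    h.dec₂, h.dec₁⟩

theorem TwoFac.inf (h : TwoFac A S₁ S₂) {x : T} (h1 : x ∈ S₁) (h2 : x ∈ S₂) : x = 1 := by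
  have := h.simple₁
  have h3 : (⟨x, h1⟩ : S₁) ∈ center S₁ := by
    rw [mem_center_iff]
    intro g
    exact Subtype.ext (h.comm g g.2 x h2)
  have h4 : center S₁ = ⊥ := by
    rcases (inferInstance : (center S₁).Normal).eq_bot_or_eq_top with h5 | h5
    · exact h5
    · exfalso
      apply h.na₁
      intro a ha b hb
      have h6 : (⟨b, hb⟩ : S₁) ∈ center S₁ := by rw [h5]; trivial
      exact congrArg Subtype.val (mem_center_iff.1 h6 ⟨a, ha⟩)
  rw [h4, mem_bot] at h3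
  exact congrArg Subtype.val h3

theorem range_simple {S : Type*} [Group S] (hS : IsSimpleGroup S) (hSna : ¬ IsMulCommutative S) {φ : S →* T}
    (hφ : Function.Injective φ) :
    IsSimpleGroup φ.range ∧ ¬ ∀ a ∈ φ.range, ∀ b ∈ φ.range, a * b = b * a := by
  refine ⟨(φ.ofInjective hφ).symm.isSimpleGroup, fun h => hSna ⟨⟨fun a b => hφ ?_⟩⟩⟩
  rw [map_mul, map_mul]
  exact h _ ⟨a, rfl⟩ _ ⟨b, rfl⟩

/-- the factors `0` and `1` -/
theorem _root_.Cfsg.Agent.H899.CG.Fac.twoFac {B : Subgroup T} {S : Type*} [Group S] {l : ℕ} (h : Fac T A B S l)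
    (hS : IsSimpleGroup S) (hSna : ¬ IsMulCommutative S) :
    ∃ S₁ S₂ : Subgroup T, TwoFac A S₁ S₂ ∧ Nat.card S₁ = Nat.card S ∧ Nat.card S₂ = Nat.card S := by
  obtain ⟨e⟩ := h.iso
  have h2 := h.two_le
  let φ : Fin l → (S →* T) := fun i =>
    A.subtype.comp (e.symm.toMonoidHom.comp (MonoidHom.mulSingle (fun _ : Fin l => S) i))
  have hφ : ∀ i, Function.Injective (φ i) := fun i =>
    A.subtype_injective.comp (e.symm.injective.comp (Pi.mulSingle_injective (M := fun _ : Fin l => S) i))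
  have hφa : ∀ i s, φ i s = ((e.symm (Pi.mulSingle i s) : A) : T) := fun i s => rfl
  have hle : ∀ i, (φ i).range ≤ A := by
    rintro i _ ⟨s, rfl⟩
    exact SetLike.coe_mem _
  have hnorm : ∀ i, ∀ a ∈ A, ∀ s ∈ (φ i).range, a * s * a⁻¹ ∈ (φ i).range := by
    rintro i a ha _ ⟨s, rfl⟩
    refine ⟨e ⟨a, ha⟩ i * s * (e ⟨a, ha⟩ i)⁻¹, ?_⟩
    rw [hφa, hφa]
    have h3 : (⟨a, ha⟩ : A) * e.symm (Pi.mulSingle i s) * (⟨a, ha⟩ : A)⁻¹
        = e.symm (Pi.mulSingle i (e ⟨a, ha⟩ i * s * (e ⟨a, ha⟩ i)⁻¹)) := by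
      apply e.injective
      rw [map_mul, map_mul, map_inv, e.apply_symm_apply, e.apply_symm_apply]
      funext j
      by_cases hj : j = i
      · subst hj
        simp
      · simp [Pi.mulSingle_eq_of_ne (M := fun _ : Fin l => S) hj]
    exact (congrArg Subtype.val h3).symm
  have hdec : ∀ i, ∀ a ∈ A, ∃ s ∈ (φ i).range, ∃ a' ∈ A, a = s * a' ∧ ∀ t ∈ (φ i).range, t * a' = a' * t := by
    intro i a ha
    let f : Fin l → S := e ⟨a, ha⟩
    let f' : Fin l → S := Function.update f i 1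
    refine ⟨φ i (f i), ⟨_, rfl⟩, (e.symm f' : A), SetLike.coe_mem _, ?_, ?_⟩
    · rw [hφa]
      have h3 : (⟨a, ha⟩ : A) = e.symm (Pi.mulSingle i (f i)) * e.symm f' := by
        rw [← map_mul]
        apply e.injective
        rw [e.apply_symm_apply]
        funext j
        by_cases hj : j = i
        · subst hj
          simp [f', f]
        · simp [f', f, Pi.mulSingle_eq_of_ne (M := fun _ : Fin l => S) hj, Function.update_of_ne hj]
      exact congrArg Subtype.val h3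
    · rintro _ ⟨t, rfl⟩
      rw [hφa]
      have h3 : e.symm (Pi.mulSingle i t) * e.symm f' = e.symm f' * e.symm (Pi.mulSingle i t) := by
        rw [← map_mul, ← map_mul]
        congr 1
        funext j
        by_cases hj : j = i
        · subst hj
          simp [f']
        · simp [f', Pi.mulSingle_eq_of_ne (M := fun _ : Fin l => S) hj]
      exact congrArg Subtype.val h3
  let i : Fin l := ⟨0, by omega⟩
  let j : Fin l := ⟨1, by omega⟩
  have hij : i ≠ j := by simp [i, j]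
  refine ⟨(φ i).range, (φ j).range, ⟨hle i, hle j, (range_simple hS hSna (hφ i)).1, (range_simple hS hSna (hφ j)).1,
    (range_simple hS hSna (hφ i)).2, (range_simple hS hSna (hφ j)).2, ?_, hnorm i, hnorm j, hdec i, hdec j⟩,
    Nat.card_congr ((φ i).ofInjective (hφ i)).toEquiv.symm, Nat.card_congr ((φ j).ofInjective (hφ j)).toEquiv.symm⟩
  rintro _ ⟨s, rfl⟩ _ ⟨t, rfl⟩
  rw [hφa, hφa]
  have h3 : e.symm (Pi.mulSingle i s) * e.symm (Pi.mulSingle j t)
      = e.symm (Pi.mulSingle j t) * e.symm (Pi.mulSingle i s) := by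
    rw [← map_mul, ← map_mul]
    congr 1
    exact Pi.mulSingle_commute (f := fun _ : Fin l => S) hij s t
  exact congrArg Subtype.val h3

end tf

section gp

variable {T : Type*} [Group T] [Finite T] {r : ℕ}

/-- `D` has no subgroup `C_r × C_r` -/
def NoSq (D : Subgroup T) (r : ℕ) : Prop :=
  ∀ x ∈ D, ∀ y ∈ D, orderOf x = r → orderOf y = r → x * y = y * x → y ∈ zpowers x

omit [Finite T] in
theorem NoSq.mono {D D' : Subgroup T} (h : NoSq D' r) (hD : D ≤ D') : NoSq D r :=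
  fun x hx y hy => h x (hD hx) y (hD hy)

/-- subgroups of order `r` of a group without `C_r × C_r` are conjugate -/
theorem conj_of_cyc (hr : r.Prime) {D : Subgroup T} (h : NoSq D r) {x y : T} (hx : x ∈ D) (hy : y ∈ D)
    (hxr : orderOf x = r) (hyr : orderOf y = r) : ∃ d ∈ D, d * y * d⁻¹ ∈ zpowers x := by
  classical
  have hF := Fact.mk hr
  let x' : D := ⟨x, hx⟩
  let y' : D := ⟨y, hy⟩
  have hx' : orderOf x' = r := by rw [← Subgroup.orderOf_coe]; exact hxr
  have hy' : orderOf y' = r := by rw [← Subgroup.orderOf_coe]; exact hyr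
  have hpx : IsPGroup r (zpowers x') := IsPGroup.of_card (n := 1) (by rw [Nat.card_zpowers, hx', pow_one])
  have hpy : IsPGroup r (zpowers y') := IsPGroup.of_card (n := 1) (by rw [Nat.card_zpowers, hy', pow_one])
  obtain ⟨P, hP⟩ := hpx.exists_le_sylow
  obtain ⟨R, hR⟩ := hpy.exists_le_sylow
  obtain ⟨d, hd⟩ := MulAction.exists_smul_eq D R P
  have h1 : d * y' * d⁻¹ ∈ P := by
    rw [← hd]
    have h2 : y' ∈ R := hR (mem_zpowers y')
    show _ ∈ ((d • R : Sylow r D) : Subgroup D)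
    rw [Sylow.coe_subgroup_smul]
    exact ⟨y', h2, rfl⟩
  -- a central element of order `r` of `P`
  have hPn : Nontrivial P := by
    refine ⟨⟨⟨x', hP (mem_zpowers x')⟩, 1, fun h2 => ?_⟩⟩
    have h3 : x' = 1 := congrArg Subtype.val h2
    rw [h3, orderOf_one] at hx'
    exact hr.one_lt.ne hx'
  have hcn := P.isPGroup'.center_nontrivial (G := P)
  have hdv : r ∣ Nat.card (center P) := by
    have h4 := (P.isPGroup'.to_subgroup (center P)).card_eq_or_dvd
    rcases h4 with h4 | h4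
    · exact absurd h4 (Finite.one_lt_card).ne'
    · exact h4
  obtain ⟨z, hz⟩ := exists_prime_orderOf_dvd_card' r hdv
  have hzo : orderOf (((z : P) : D) : T) = r := by rw [Subgroup.orderOf_coe, Subgroup.orderOf_coe, Subgroup.orderOf_coe, hz]
  have key : ∀ w : D, w ∈ P → orderOf w = r → (w : T) ∈ zpowers (((z : P) : D) : T) := by
    intro w hw hwr
    refine h _ ((z : P) : D).2 _ w.2 hzo (by rw [Subgroup.orderOf_coe]; exact hwr) ?_
    have h5 := mem_center_iff.1 z.2 ⟨w, hw⟩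
    have h6 := congrArg (fun t : P => ((t : D) : T)) h5
    exact h6.symm
  have h5 := key x' (hP (mem_zpowers x')) hx'
  have h6 := key _ h1 (by
    have : orderOf (d * y' * d⁻¹) = orderOf y' := by
      rw [← MulAut.conj_apply]; exact orderOf_injective (MulAut.conj d).toMonoidHom (MulAut.conj d).injective y'
    rw [this, hy'])
  refine ⟨d, d.2, ?_⟩
  have h7 : zpowers x = zpowers (((z : P) : D) : T) := by
    refine Subgroup.eq_of_le_of_card_ge (zpowers_le.2 h5) ?_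
    rw [Nat.card_zpowers, Nat.card_zpowers, hzo, hxr]
  rw [h7]
  exact h6

/-- **conjugacy inside a factorization**: `y`, `t y t⁻¹ ∈ A`, `y ∈ M` of order `r` -/
theorem gp (hr : r.Prime) {A M : Subgroup T} (hf : ∀ t : T, ∃ a ∈ A, ∃ m ∈ M, t = a * m) (h : NoSq M r) {y t : T}
    (hyA : y ∈ A) (hyM : y ∈ M) (hy : orderOf y = r) (ht : t * y * t⁻¹ ∈ A) :
    ∃ a ∈ A, a * y * a⁻¹ ∈ zpowers (t * y * t⁻¹) := by
  obtain ⟨a, ha, m, hm, rfl⟩ := hf t
  have h1 : m * y * m⁻¹ ∈ A ⊓ M := by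
    refine ⟨?_, M.mul_mem (M.mul_mem hm hyM) (M.inv_mem hm)⟩
    have h2 := A.mul_mem (A.mul_mem (A.inv_mem ha) ht) ha
    have h3 : a⁻¹ * (a * m * y * (a * m)⁻¹) * a = m * y * m⁻¹ := by group
    rwa [h3] at h2
  have ho : orderOf (m * y * m⁻¹) = r := by
    have : orderOf (m * y * m⁻¹) = orderOf y := by
      rw [← MulAut.conj_apply]; exact orderOf_injective (MulAut.conj m).toMonoidHom (MulAut.conj m).injective y
    rw [this, hy]
  obtain ⟨d, hd, hdm⟩ := conj_of_cyc hr (h.mono inf_le_right) h1 (⟨hyA, hyM⟩ : y ∈ A ⊓ M) ho hy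
  refine ⟨a * d, A.mul_mem ha hd.1, ?_⟩
  obtain ⟨k, hk⟩ := mem_zpowers_iff.1 hdm
  refine mem_zpowers_iff.2 ⟨k, ?_⟩
  have h4 : a * m * y * (a * m)⁻¹ = a * (m * y * m⁻¹) * a⁻¹ := by group
  rw [h4, conj_zpow, hk]
  group

end gp

section lift

variable {T G : Type*} [Group T] [Group G]

/-- lifts of commuting elements commute if one of them has odd order -/
theorem comm_lift {r : ℕ} (hr2 : Odd r) (π : G →* T) (hker : ∀ k, π k = 1 → k ^ 2 = 1 ∧ ∀ g, k * g = g * k)
    {g h : G} (hg : g ^ r = 1) (hc : π g * π h = π h * π g) : g * h = h * g := by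
  have h1 : π (h * g * h⁻¹ * g⁻¹) = 1 := by
    rw [map_mul, map_mul, map_mul, map_inv, map_inv, ← hc]
    group
  obtain ⟨h2, h3⟩ := hker _ h1
  set k := h * g * h⁻¹ * g⁻¹ with hk
  have h4 : h * g * h⁻¹ = k * g := by rw [hk]; group
  have h5 : (h * g * h⁻¹) ^ r = 1 := by rw [conj_pow, hg, mul_one, mul_inv_cancel]
  have hkg : Commute k g := h3 g
  rw [h4, hkg.mul_pow, hg, mul_one] at h5
  obtain ⟨j, hj⟩ := hr2
  rw [hj, pow_succ, pow_mul, h2, one_pow, one_mul] at h5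
  rw [h5, one_mul, mul_inv_eq_iff_eq_mul] at h4
  exact h4.symm

end lift

end Cfsg.Agent.H899.Pt
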