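import Cfsg.Agent.H899.Pt.ConjA
import Cfsg.Agent.H899.Pt.Inst
import Cfsg.Agent.S0750

/-!
# Conjugacy of subgroups of order `r` with `dim [V, x] = n` in orthogonal groups (helper899, S3679)

* `conj_O` : in `O(Q)`;
* `O_eq_mul` : `O(Q) = C(y) E(Q)`;
* `conj_E` : in `E(Q)`;
* `conj_omega` : in `Ω(Q)`.
-/

set_option autoImplicit false
set_option linter.unusedSectionVars false
set_option linter.unusedVariables false

namespace Cfsg.Agent.H899.Pt

open Module QuadraticMap Cfsg Cfsg.Agent.H955 Cfsg.Agent.LieClassical.OrthCore Cfsg.Agent.LieClassical.OrthTrans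
open Cfsg.Agent.H954.TSing Cfsg.Agent.H884.Cg
open Cfsg.Agent.H951 (fx cm Inv mem_fx mem_cm finrank_fx_add_cm isCompl_fx_cm)

section Abs

variable {F : Type*} [Field F] [Fintype F] {V : Type*} [AddCommGroup V] [Module F V] [FiniteDimensional F V]
  {Q : QuadraticForm F V} {r n : ℕ}

theorem toE_iso {x : V ≃ₗ[F] V} (hx : x ∈ O Q) (v : V) : Q (toE x v) = Q v := hx v

theorem conj_O (h : RD F r n) (he : Even n) (hQ : Nondeg Q) {x y : V ≃ₗ[F] V} (hx : x ∈ O Q) (hy : y ∈ O Q)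
    (hxr : x ^ r = 1) (hyr : y ^ r = 1) (hx1 : x ≠ 1) (hy1 : y ≠ 1) (hdx : finrank F (cm (toE x)) = n)
    (hdy : finrank F (cm (toE y)) = n) : ∃ g ∈ O Q, g * x * g⁻¹ ∈ Subgroup.zpowers y := by
  have hF := Fact.mk h.prime
  have hnx := nondeg_cm hQ (toE_iso hx) h.ne0 (toE_pow hxr)
  have hny := nondeg_cm hQ (toE_iso hy) h.ne0 (toE_pow hyr)
  have hPx : ¬ IsPlus (res Q (cm (toE x))) := by
    rw [isPlus_cm_iff h.two_lt hQ (toE_iso hx) h.ne0 (toE_pow hxr) h.ord he (A := 1) (by rw [hdx, mul_one])]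
    decide
  have hPy : ¬ IsPlus (res Q (cm (toE y))) := by
    rw [isPlus_cm_iff h.two_lt hQ (toE_iso hy) h.ne0 (toE_pow hyr) h.ord he (A := 1) (by rw [hdy, mul_one])]
    decide
  obtain ⟨e, hee⟩ := exists_equiv_of_isPlus_iff hnx hny (by rw [hdx]; exact he) (by rw [hdx, hdy])
    (iff_of_false hPx hPy)
  obtain ⟨g, hg, hge⟩ := Cfsg.Agent.S0750.result Q (nondeg_iff.1 hQ) _ _ e (fun v => hee v)
  have hgO : g ∈ O Q := fun v => hg v
  have hmap : (cm (toE x)).map (g : V →ₗ[F] V) = cm (toE y) := by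
    apply Submodule.eq_of_le_of_finrank_le
    · rintro _ ⟨v, hv, rfl⟩
      have h1 := hge ⟨v, hv⟩
      show g v ∈ _
      rw [h1]
      exact (e ⟨v, hv⟩).2
    · rw [LinearEquiv.finrank_map_eq, hdx, hdy]
  have hcm' : cm (toE (g * x * g⁻¹)) = cm (toE y) := by rw [cm_conj, hmap]
  have hx' : g * x * g⁻¹ ∈ O Q := (O Q).mul_mem ((O Q).mul_mem hgO hx) ((O Q).inv_mem hgO)
  have hxr' : (g * x * g⁻¹) ^ r = 1 := by rw [conj_pow, hxr, mul_one, mul_inv_cancel]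
  have hx1' : g * x * g⁻¹ ≠ 1 := by
    intro h1
    apply hx1
    have : x = g⁻¹ * (g * x * g⁻¹) * g := by group
    rw [this, h1]
    group
  have hfx' : fx (toE (g * x * g⁻¹)) = fx (toE y) := by
    rw [← perp_cm hQ (toE_iso hx') h.ne0 (toE_pow hxr'), ← perp_cm hQ (toE_iso hy) h.ne0 (toE_pow hyr), hcm']
  obtain ⟨d, hd, hdx⟩ := conj_same h hx' hy hxr' hyr hx1' hy1 hcm' hfx' hdy
  refine ⟨d * g, (O Q).mul_mem hd hgO, ?_⟩
  have : d * g * x * (d * g)⁻¹ = d * (g * x * g⁻¹) * d⁻¹ := by group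
  rw [this]
  exact hdx

/-- `O(Q) = C(y) E(Q)` if the fixed space of `y` has dimension at least three -/
theorem O_eq_mul (hG : Good Q) {y : V ≃ₗ[F] V} (hy : y ∈ O Q) (hn : Nondeg (res Q (fx (toE y))))
    (h3 : 3 ≤ finrank F (fx (toE y))) {h : V ≃ₗ[F] V} (hh : h ∈ O Q) :
    ∃ u ∈ O Q, u * y = y * u ∧ u⁻¹ * h ∈ E Q := by
  rw [O_eq_closure hG.nondeg] at hh
  induction hh using Subgroup.closure_induction with
  | mem x hx =>
    rcases hx with ⟨v, hv, rfl⟩ | ⟨u, w, hu, hw, rfl⟩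
    · obtain ⟨v', hv', -, hvv⟩ := exists_norm_mem hn h3 (Q v)
      have hv0 : Q v' ≠ 0 := by rw [hvv]; exact hv
      refine ⟨refl Q v' hv0, refl_mem_O hv0, ?_, ?_⟩
      · have h1 : y v' = v' := mem_fx.1 hv'
        have h2 := refl_conj hy hv0 (by rw [h1]; exact hv0)
        have h4 : refl Q (y v') (by rw [h1]; exact hv0) = refl Q v' hv0 := by
          congr 1
        rw [h4, mul_inv_eq_iff_eq_mul] at h2
        exact h2.symm
      · rw [refl_inv]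
        exact hG.refl_mul_refl_mem hv hv0 hvv.symm
    · exact ⟨1, (O Q).one_mem, by rw [one_mul, mul_one], by rw [inv_one, one_mul]; exact siegel_mem_E hu hw⟩
  | one => exact ⟨1, (O Q).one_mem, by rw [one_mul, mul_one], by rw [inv_one, one_mul]; exact (E Q).one_mem⟩
  | mul a b ha hb iha ihb =>
    obtain ⟨u, hu, huy, hua⟩ := iha
    obtain ⟨v, hv, hvy, hvb⟩ := ihb
    refine ⟨u * v, (O Q).mul_mem hu hv, ?_, ?_⟩
    · rw [mul_assoc, hvy, ← mul_assoc, huy, mul_assoc]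
    · have h1 := conj_mem_E ((O Q).inv_mem hv) hua
      have h2 : (u * v)⁻¹ * (a * b) = (v⁻¹ * (u⁻¹ * a) * v⁻¹⁻¹) * (v⁻¹ * b) := by group
      rw [h2]
      exact (E Q).mul_mem h1 hvb
  | inv a ha iha =>
    obtain ⟨u, hu, huy, hua⟩ := iha
    refine ⟨u⁻¹, (O Q).inv_mem hu, ?_, ?_⟩
    · rw [inv_mul_eq_iff_eq_mul, ← mul_assoc, huy, mul_assoc, mul_inv_cancel, mul_one]
    · have h1 := conj_mem_E hu ((E Q).inv_mem hua)
      have h2 : u⁻¹⁻¹ * a⁻¹ = u * (u⁻¹ * a)⁻¹ * u⁻¹ := by group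
      rw [h2]
      exact h1

theorem conj_E (h : RD F r n) (he : Even n) (hQ : Nondeg Q) (h5 : 5 ≤ finrank F V) (hn3 : n + 3 ≤ finrank F V)
    {x y : V ≃ₗ[F] V} (hx : x ∈ O Q) (hy : y ∈ O Q)
    (hxr : x ^ r = 1) (hyr : y ^ r = 1) (hx1 : x ≠ 1) (hy1 : y ≠ 1) (hdx : finrank F (cm (toE x)) = n)
    (hdy : finrank F (cm (toE y)) = n) : ∃ g ∈ E Q, g * x * g⁻¹ ∈ Subgroup.zpowers y := by
  obtain ⟨g, hg, hgx⟩ := conj_O h he hQ hx hy hxr hyr hx1 hy1 hdx hdy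
  have hG : Good Q := LieClassical.OrthFinite.good_of_finite hQ h5
  have hsum := finrank_fx_add_cm h.ne0 (toE_pow hyr)
  obtain ⟨u, hu, huy, hug⟩ := O_eq_mul hG hy (nondeg_fx hQ (toE_iso hy) h.ne0 (toE_pow hyr)) (by omega) hg
  refine ⟨u⁻¹ * g, hug, ?_⟩
  have h1 : u⁻¹ * g * x * (u⁻¹ * g)⁻¹ = u⁻¹ * (g * x * g⁻¹) * u := by group
  rw [h1]
  obtain ⟨k, hk⟩ := Subgroup.mem_zpowers_iff.1 hgx
  rw [← hk]
  have hc : Commute u (y ^ k) := (show Commute u y from huy).zpow_right k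
  rw [mul_assoc, ← hc.eq, ← mul_assoc, inv_mul_cancel, one_mul]
  exact Subgroup.mem_zpowers_iff.2 ⟨k, rfl⟩

end Abs

section Om

universe u

variable {ι : Type} [Fintype ι] [DecidableEq ι] {F : Type u} [Field F] [Fintype F] {Q : QuadraticForm F (ι → F)}
  {r n : ℕ}

/-- `Ω(Q)` as linear automorphisms -/
noncomputable def omHom (Q : QuadraticForm F (ι → F)) : Omega F (⇑Q) →* ((ι → F) ≃ₗ[F] (ι → F)) :=
  (LieClassical.OrthFinite.isometryHom Q).comp (Omega F (⇑Q)).subtype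

theorem toE_omHom (x : Omega F (⇑Q)) : toE (omHom Q x) = rep (⇑Q) x := rfl

theorem omHom_inj : Function.Injective (omHom Q) :=
  (LieClassical.OrthFinite.isometryHom_injective Q).comp (Subgroup.subtype_injective _)

theorem omHom_mem (x : Omega F (⇑Q)) : omHom Q x ∈ O Q := fun v => rep_iso x v

theorem exists_omHom (hG : Good Q) {g : (ι → F) ≃ₗ[F] (ι → F)} (hg : g ∈ E Q) : ∃ x, omHom Q x = g := by
  rw [← hG.commutator_eq_E, ← LieClassical.OrthFinite.map_Omega] at hg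
  obtain ⟨x, hx, rfl⟩ := hg
  exact ⟨⟨x, hx⟩, rfl⟩

theorem conj_omega (h : RD F r n) (he : Even n) (hQ : Nondeg Q) (h5 : 5 ≤ Fintype.card ι) (hn3 : n + 3 ≤ Fintype.card ι)
    {x y : Omega F (⇑Q)} (hxr : x ^ r = 1) (hyr : y ^ r = 1) (hx1 : x ≠ 1) (hy1 : y ≠ 1)
    (hdx : finrank F (cm (rep (⇑Q) x)) = n) (hdy : finrank F (cm (rep (⇑Q) y)) = n) :
    ∃ g, g * x * g⁻¹ ∈ Subgroup.zpowers y := by
  obtain ⟨g, hg, hgx⟩ := conj_E h he hQ (x := omHom Q x) (y := omHom Q y)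
    (by rw [H884.El.finrank_V]; exact h5) (by rw [H884.El.finrank_V]; exact hn3) (omHom_mem x)
    (omHom_mem y) (by rw [← map_pow, hxr, map_one]) (by rw [← map_pow, hyr, map_one])
    (fun h1 => hx1 (omHom_inj (by rw [h1, map_one]))) (fun h1 => hy1 (omHom_inj (by rw [h1, map_one]))) hdx hdy
  obtain ⟨g, rfl⟩ := exists_omHom (LieClassical.OrthFinite.good_of_finite hQ
    (by rw [H884.El.finrank_V]; exact h5)) hg
  obtain ⟨k, hk⟩ := Subgroup.mem_zpowers_iff.1 hgx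
  refine ⟨g, Subgroup.mem_zpowers_iff.2 ⟨k, omHom_inj ?_⟩⟩
  rw [map_zpow, hk, map_mul, map_mul, map_inv]

end Om

end Cfsg.Agent.H899.Pt
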