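import Cfsg.Agent.H899.Pt.Comb
import Cfsg.Agent.H899.Pt.ConjO
import Cfsg.Agent.H57.BG.SpKill

/-!
# Factorizations: the environment for `PSp` and `PΩ` (helper899, S3679)
-/

set_option autoImplicit false
set_option linter.unusedSectionVars false
set_option linter.unusedVariables false

namespace Cfsg.Agent.H899.Pt

open Module QuadraticMap Cfsg Cfsg.Geo Cfsg.Agent.H884.Cg Cfsg.Agent.H955 Cfsg.Agent.LieClassical.OrthCore
open Cfsg.Agent.H899.CG Cfsg.Agent.H436
open Cfsg.Agent.H951 (fx cm Inv mem_fx)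
open Cfsg.Agent.H884.El (PP exists_pp ord_eq finrank_V)
open Cfsg.Agent.H57.BG (repS repS_injective)
open Cfsg.Agent.ClassicalGeometry.SympBasic
open scoped MatrixGroups Matrix

universe u

theorem pp_of_prim {F : Type*} [Field F] [Fintype F] {p f n r : ℕ} (hF : Fintype.card F = p ^ f) (hf : 1 ≤ f)
    (hr : Prim p (n * f) r) : PP (Nat.card F) n r := by
  refine ⟨hr.prime, ?_⟩
  have hP : Prim (p ^ f) n r := prim_of_pow hf hr
  have hq : 1 ≤ p ^ f := by
    rw [← hF]
    exact Fintype.card_pos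
  rw [Nat.card_eq_fintype_card, hF]
  apply Nat.dvd_antisymm
  · rw [← Cfsg.Agent.Lib.Zsigmondy.dvd_pow_sub_one_iff hq, hP.dvd_iff]
  · rw [← hP.dvd_iff, Cfsg.Agent.Lib.Zsigmondy.dvd_pow_sub_one_iff hq]

theorem rd_of_pp {F : Type*} [Field F] [Fintype F] {n r : ℕ} (hn : 2 ≤ n) (hr : PP (Nat.card F) n r) : RD F r n :=
  ⟨hr.prime, by have := hr.lt (by omega); omega, hr.ne0 (by omega), ord_eq hr⟩

section Symp

variable {G : Type*} [Group G] {F : Type*} [Field F] {V : Type*} [AddCommGroup V] [Module F V]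
variable {r n : ℕ} {ρ : G →* Module.End F V}

/-- a representation as linear automorphisms -/
noncomputable def toL (ρ : G →* Module.End F V) : G →* (V ≃ₗ[F] V) :=
  (LinearMap.GeneralLinearGroup.generalLinearEquiv F V).toMonoidHom.comp ρ.toHomUnits

theorem toE_toL (g : G) : toE (toL ρ g) = ρ g := rfl

theorem toL_inj (h : Function.Injective ρ) : Function.Injective (toL ρ) := fun a b hab => h (by
  rw [← toE_toL (ρ := ρ) a, ← toE_toL (ρ := ρ) b, hab])

theorem conj0_symp [Fintype F] [FiniteDimensional F V] {B : LinearMap.BilinForm F V} (h : RD F r n)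
    (hinj : Function.Injective ρ) (hB : B.Nondegenerate) (hA : B.IsAlt) (hiso : ∀ g u v, B (ρ g u) (ρ g v) = B u v)
    (hfull : ∀ t ∈ isoB B, ∃ g, ρ g = toE t) : Conj0 r n ρ := by
  intro x y hxr hyr hx1 hy1 hdx hdy
  obtain ⟨g, hg, hgx⟩ := conj_S h hB hA (x := toL ρ x) (y := toL ρ y) (hiso x) (hiso y) (by rw [← map_pow, hxr, map_one])
    (by rw [← map_pow, hyr, map_one]) (fun h1 => hx1 (toL_inj hinj (by rw [h1, map_one])))
    (fun h1 => hy1 (toL_inj hinj (by rw [h1, map_one]))) hdx hdy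
  obtain ⟨g', hg'⟩ := hfull g hg
  obtain rfl : toL ρ g' = g := toE_inj hg'
  obtain ⟨k, hk⟩ := Subgroup.mem_zpowers_iff.1 hgx
  exact ⟨g', Subgroup.mem_zpowers_iff.2 ⟨k, toL_inj hinj (by rw [map_zpow, hk, map_mul, map_mul, map_inv])⟩⟩

end Symp

section PSp

variable {F : Type u} [Field F] [Fintype F] {m r : ℕ}

theorem finrank_sp : finrank F (Fin m ⊕ Fin m → F) = 2 * m := by
  rw [finrank_fintype_fun_eq_card, Fintype.card_sum, Fintype.card_fin]; ring

omit [Fintype F] in
theorem sp_iso (g : Matrix.symplecticGroup (Fin m) F) (u v : Fin m ⊕ Fin m → F) :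
    sympBilin m F (repS m F g u) (repS m F g v) = sympBilin m F u v := H57.BG.repS_isom g u v

omit [Fintype F] in
theorem sp_full (t : (Fin m ⊕ Fin m → F) ≃ₗ[F] (Fin m ⊕ Fin m → F)) (ht : t ∈ isoB (sympBilin m F)) :
    ∃ g, repS m F g = toE t := by
  have h1 : LinearMap.toMatrix' (toE t) ∈ Matrix.symplecticGroup (Fin m) F := by
    rw [mem_symplecticGroup_iff]
    intro u v
    rw [← Matrix.toLin'_apply, ← Matrix.toLin'_apply, Matrix.toLin'_toMatrix']
    exact ht u v
  refine ⟨⟨_, h1⟩, ?_⟩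
  show Matrix.toLin' (LinearMap.toMatrix' (toE t)) = _
  rw [Matrix.toLin'_toMatrix']

omit [Fintype F] in
theorem sp_pm (hm : 1 ≤ m) {k : Matrix.symplecticGroup (Fin m) F}
    (hk : QuotientGroup.mk' (Subgroup.center (Matrix.symplecticGroup (Fin m) F)) k = 1) :
    repS m F k = 1 ∨ repS m F k = -1 := by
  have h0 : k ∈ Subgroup.center (Matrix.symplecticGroup (Fin m) F) := (QuotientGroup.eq_one_iff k).1 hk
  obtain ⟨a, ha⟩ := (LieClassical.SympCenter.mem_center_iff m k).1 h0
  have h1 := LieClassical.SympCenter.sq_eq_one_of_smul_mem hm (ha ▸ k.2)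
  have h3 : repS m F k = a • (1 : Module.End F (Fin m ⊕ Fin m → F)) := by
    show Matrix.toLin' k.1 = _
    rw [ha, map_smul, Matrix.toLin'_one]
    rfl
  rcases mul_self_eq_one_iff.1 h1 with h2 | h2
  · left; rw [h3, h2, one_smul]
  · right
    rw [h3, h2]
    apply LinearMap.ext
    intro v
    rw [LinearMap.smul_apply, LinearMap.neg_apply, Module.End.one_apply, neg_smul, one_smul]

theorem env_psp (hm : 3 ≤ m) (hr : PP (Nat.card F) m r) :
    Env r m (QuotientGroup.mk' (Subgroup.center (Matrix.symplecticGroup (Fin m) F))) (repS m F) where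
  rd := rd_of_pp (by omega) hr
  n3 := hm
  surj := QuotientGroup.mk'_surjective _
  ker k hk := by
    refine ⟨?_, fun g => ((Subgroup.mem_center_iff.1 ((QuotientGroup.eq_one_iff k).1 hk)) g).symm⟩
    apply repS_injective
    rw [map_pow, map_one]
    rcases sp_pm (by omega) hk with h | h
    · rw [h, one_pow]
    · rw [h]
      apply LinearMap.ext
      intro v
      rw [pow_two, Module.End.mul_apply, LinearMap.neg_apply, LinearMap.neg_apply, Module.End.one_apply,
        Module.End.one_apply, neg_neg]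
  inj := repS_injective
  dim := by rw [finrank_sp]; omega

theorem conj0_psp (hm : 3 ≤ m) (hr : PP (Nat.card F) m r) : Conj0 r m (repS m F) :=
  conj0_symp (rd_of_pp (by omega) hr) repS_injective sympBilin_nondegenerate sympBilin_isAlt sp_iso sp_full

end PSp

section POm

variable {ι : Type} [Fintype ι] [DecidableEq ι] {F : Type u} [Field F] [Fintype F] {Q : QuadraticForm F (ι → F)}
  {r m : ℕ}

theorem env_omega (hD : H390.Lift.Data Q) (hm : 3 ≤ m) (hr : PP (Nat.card F) m r) (hc : Fintype.card ι ≤ 2 * m + 1) :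
    Env r m (QuotientGroup.mk' (Subgroup.center (Omega F (⇑Q)))) (rep (⇑Q)) where
  rd := rd_of_pp (by omega) hr
  n3 := hm
  surj := QuotientGroup.mk'_surjective _
  ker k hk := by
    have h1 : k ∈ Subgroup.center (Omega F (⇑Q)) := (QuotientGroup.eq_one_iff k).1 hk
    exact ⟨H390.Lift.center_sq hD k h1, fun g => (Subgroup.mem_center_iff.1 h1 g).symm⟩
  inj := rep_injective _
  dim := by rw [finrank_V]; exact hc

theorem conj0_omega (hQ : Nondeg Q) (hm : 3 ≤ m) (hme : Even m) (hr : PP (Nat.card F) m r)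
    (hc : 2 * m ≤ Fintype.card ι) : Conj0 r m (rep (⇑Q)) := by
  intro x y hxr hyr hx1 hy1 hdx hdy
  exact conj_omega (rd_of_pp (by omega) hr) hme hQ (by omega) (by omega) hxr hyr hx1 hy1 hdx hdy

theorem omega_iso (x : Omega F (⇑Q)) (u v : ι → F) :
    polarBilin Q (rep (⇑Q) x u) (rep (⇑Q) x v) = polarBilin Q u v := by
  show polar Q _ _ = polar Q _ _
  unfold polar
  rw [← map_add, rep_iso, rep_iso, rep_iso]

end POm

end Cfsg.Agent.H899.Pt
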