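import Cfsg.Agent.H899.Pt.EnvI
import Cfsg.Agent.H462.Beta.Main

/-!
# Factorizations: elements of `M` of type `n` (helper899, S3679)
-/

set_option autoImplicit false
set_option linter.unusedSectionVars false
set_option linter.unusedVariables false

namespace Cfsg.Agent.H899.Pt

open Module Cfsg.Agent.H951 Cfsg.Agent.H884.Cg Cfsg.Agent.H899.CG

variable {T G : Type*} [Group T] [Finite T] [Group G] {F : Type*} [Field F] [Fintype F] {V : Type*} [AddCommGroup V]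
  [Module F V] [FiniteDimensional F V]
variable {r n : ℕ} {π : G →* T} {ρ : G →* Module.End F V} {M : Subgroup T}

/-- `M` has an element of order `r` and type `n` -/
def HasType (π : G →* T) (ρ : G →* Module.End F V) (r n : ℕ) (M : Subgroup T) : Prop :=
  ∃ x : G, π x ∈ M ∧ x ^ r = 1 ∧ x ≠ 1 ∧ finrank F (cm (ρ x)) = n

omit [Finite T] in
theorem Env.hasType_beta (h : Env r n π ρ) (B : LinearMap.BilinForm F V) (hnd : ∀ u, u ≠ 0 → ∃ v, B u v ≠ 0)
    (hB : ∀ g u v, B (ρ g u) (ρ g v) = B u v) {x z : T} (hxM : x ∈ M) (hx : orderOf x = r) {s : ℕ} (hs : s.Prime)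
    (hs0 : (s : F) ≠ 0) (hord : ¬ orderOf (Fintype.card F : ZMod s) ∣ n) (hz : orderOf z = s) (hc : x * z = z * x) :
    HasType π ρ r n M := by
  obtain ⟨x', rfl, h1, h2⟩ := h.lift_ne hx
  refine ⟨x', hxM, h1, h2, ?_⟩
  rcases h.type h1 h2 with h3 | h3
  · exact h3
  · exfalso
    have h4 := H462.Beta.env_beta h B hnd hB h1 h3 hs hs0 hord (t := z) (by rw [← hz, pow_orderOf_eq_one]) hc
    rw [h4, orderOf_one] at hz
    exact hs.one_lt.ne hz

omit [Finite T] in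
theorem Env.hasType_sq (h : Env r n π ρ) (B : LinearMap.BilinForm F V) (hnd : ∀ u, u ≠ 0 → ∃ v, B u v ≠ 0)
    (hB : ∀ g u v, B (ρ g u) (ρ g v) = B u v) (hn : Even n) {x w₁ w₂ : T} (hxM : x ∈ M) (hx : orderOf x = r)
    {u : ℕ} (hu : u.Prime) (hu2 : 2 < u) (hun : u ∣ Fintype.card F ^ (n / 2) - 1) (h₁ : orderOf w₁ = u)
    (h₂ : orderOf w₂ = u) (hc₁ : x * w₁ = w₁ * x) (hc₂ : x * w₂ = w₂ * x) (h12 : w₁ * w₂ = w₂ * w₁)
    (hno : w₂ ∉ Subgroup.zpowers w₁) : HasType π ρ r n M := by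
  obtain ⟨x', rfl, h1, h2⟩ := h.lift_ne hx
  refine ⟨x', hxM, h1, h2, ?_⟩
  rcases h.type h1 h2 with h3 | h3
  · exact h3
  · exfalso
    refine hno (H462.Beta.env_no_sq h B hnd hB h1 h3 hn hu hu2 hun (by rw [← h₁, pow_orderOf_eq_one])
      (by rw [← h₂, pow_orderOf_eq_one]) hc₁ hc₂ h12 ?_)
    rintro rfl
    rw [orderOf_one] at h₁
    omega

theorem sp_nd {F : Type*} [Field F] {m : ℕ} (u : Fin m ⊕ Fin m → F) (hu : u ≠ 0) :
    ∃ v, ClassicalGeometry.SympBasic.sympBilin m F u v ≠ 0 := by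
  by_contra hcon
  push Not at hcon
  exact hu (ClassicalGeometry.SympBasic.sympBilin_nondegenerate.1 u hcon)

end Cfsg.Agent.H899.Pt
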