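import Cfsg.Agent.H899.Pt.Grp
import Cfsg.Agent.H954.TSing5

/-!
# Factorizations by the stabiliser of a nonsingular point, I (helper899, S3679)

`Cfg` : `G → T` (central kernel of exponent two), `G ≤ O(V, Q)`, `A ≤ T` transitive on the points `⟨v⟩`, `Q v = c ≠ 0`,
`r` a prime with `ord_r(q) = n ≥ 3`, `dim V ≤ 2 n + 1`, no element `z` of order `r` with `dim [V, z] ≥ 2 n` fixes a
vector of norm `c`.

* `Cfg.big₂` : all elements `x` of order `r` of the factors `S₁`, `S₂` of `A` have `dim [V, x] ≥ 2 n`.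
-/

set_option autoImplicit false
set_option linter.unusedSectionVars false
set_option linter.unusedVariables false

namespace Cfsg.Agent.H899.Pt

open Module QuadraticMap Cfsg.Agent.H951 Cfsg.Agent.H884.Cg Cfsg.Agent.H955 Cfsg.Agent.LieClassical.OrthCore
open Cfsg.Agent.H954.TSing

variable {T G : Type*} [Group T] [Group G] {F : Type*} [Field F] [Fintype F] {V : Type*} [AddCommGroup V] [Module F V]
  [FiniteDimensional F V]

/-- the data -/
structure Cfg (Q : QuadraticForm F V) (c : F) (r n : ℕ) (π : G →* T) (ρ : G →* Module.End F V) (A : Subgroup T) :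
    Prop where
  rd : RD F r n
  n3 : 3 ≤ n
  surj : Function.Surjective π
  ker : ∀ k, π k = 1 → k ^ 2 = 1 ∧ ∀ g, k * g = g * k
  inj : Function.Injective ρ
  iso : ∀ g v, Q (ρ g v) = Q v
  nondeg : Nondeg Q
  tr : ∀ v w, Q v = c → Q w = c → ∃ a, π a ∈ A ∧ (ρ a v = w ∨ ρ a v = -w)
  c0 : c ≠ 0
  dim : 2 * n ≤ finrank F V
  uni : ∀ Z : Submodule F V, Nondeg (res Q Z) → 3 ≤ finrank F Z → ∀ d, ∃ v ∈ Z, v ≠ 0 ∧ Q v = d
  nb : ∀ z : G, z ^ r = 1 → 2 * n ≤ finrank F (cm (ρ z)) → ∀ w, Q w = c → ρ z w ≠ w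

variable {Q : QuadraticForm F V} {c : F} {r n : ℕ} {π : G →* T} {ρ : G →* Module.End F V} {A S₁ S₂ : Subgroup T}

theorem Cfg.odd (h : Cfg Q c r n π ρ A) : Odd r := h.rd.prime.odd_of_ne_two (by have := h.rd.two_lt; omega)

theorem Cfg.rpow (h : Cfg Q c r n π ρ A) {x : G} (hx : x ^ r = 1) : ρ x ^ r = 1 := by rw [← map_pow, hx, map_one]

theorem Cfg.rne (h : Cfg Q c r n π ρ A) {x : G} (hx : x ≠ 1) : ρ x ≠ 1 := fun h1 => hx (h.inj (by rw [h1, map_one]))

theorem Cfg.pne (h : Cfg Q c r n π ρ A) {x : G} (hx : x ^ r = 1) (hx1 : x ≠ 1) : π x ≠ 1 := by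
  intro h1
  obtain ⟨h2, -⟩ := h.ker x h1
  obtain ⟨j, hj⟩ := h.odd
  apply hx1
  rw [hj, pow_succ, pow_mul, h2, one_pow, one_mul] at hx
  exact hx

theorem Cfg.comm (h : Cfg Q c r n π ρ A) {g x : G} (hx : x ^ r = 1) (hc : π x * π g = π g * π x) : x * g = g * x :=
  comm_lift h.odd π h.ker hx hc

theorem Cfg.comm' (h : Cfg Q c r n π ρ A) {g x : G} (hx : x ^ r = 1) (hc : π x * π g = π g * π x) :
    Commute (ρ x) (ρ g) := by
  show ρ x * ρ g = ρ g * ρ x
  rw [← map_mul, h.comm hx hc, map_mul]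

theorem mem_fx_inv {x : G} {v : V} (hv : v ∈ fx (ρ x)) : v ∈ fx (ρ x⁻¹) := by
  rw [mem_fx] at hv ⊢
  conv_lhs => rw [← hv]
  rw [← Module.End.mul_apply, ← map_mul, inv_mul_cancel, map_one]
  rfl

theorem mem_fx_pow {x : G} {v : V} (hv : v ∈ fx (ρ x)) (i : ℕ) : v ∈ fx (ρ (x ^ i)) := by
  rw [mem_fx, map_pow]
  exact pow_fx (mem_fx.1 hv) i

theorem mem_fx_mul {x y : G} {v : V} (hv : v ∈ fx (ρ x)) (hv' : v ∈ fx (ρ y)) : v ∈ fx (ρ (x * y)) := by
  rw [mem_fx] at *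
  rw [map_mul, Module.End.mul_apply, hv', hv]

/-- `x ∈ S₂`, `y ∈ S₁` of order `r`, `Z` invariant of dimension `n`, `x` fixed point free on `Z`: `y` is trivial
on `Z`. -/
theorem Cfg.triv (h : Cfg Q c r n π ρ A) (hS : TwoFac A S₁ S₂) {x y : G} (hx : π x ∈ S₂) (hxr : x ^ r = 1)
    (hy : π y ∈ S₁) (hyr : y ^ r = 1) {Z : Submodule F V} (hZx : Inv (ρ x) Z)
    (hZ : ∀ g, π g ∈ S₁ → Inv (ρ g) Z) (hd : finrank F Z = n) (hf : Z ⊓ fx (ρ x) = ⊥) : Z ≤ fx (ρ y) := by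
  have hxy : Commute (ρ y) (ρ x) := (h.comm' hxr (hS.comm _ hy _ hx).symm).symm
  obtain ⟨i, hi, hZi⟩ := h.rd.exists_triv (h.rpow hyr) (h.rpow hxr) hxy (hZ y hy) hZx hd hf
  refine lemC h.odd π h.surj h.ker ρ hS.simple₁ hS.na₁ hy hyr hZ fun g hg v hv => ?_
  -- `ρ y = ρ (x ^ i)⁻¹` on `Z`
  have key : ∀ w ∈ Z, ρ y w = ρ (x ^ i)⁻¹ w := by
    intro w hw
    have h1 := mem_fx.1 (hZi hw)
    rw [← map_pow, ← map_mul] at h1
    have h2 : y * x ^ i = x ^ i * y := by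
      have h3 := h.comm hxr (hS.comm _ hy _ hx).symm
      exact ((show Commute x y from h3).pow_left i).symm
    rw [h2, map_mul, Module.End.mul_apply] at h1
    conv_rhs => rw [← h1]
    rw [← Module.End.mul_apply, ← map_mul, inv_mul_cancel, map_one]
    rfl
  have hgx : g * (x ^ i)⁻¹ = (x ^ i)⁻¹ * g := by
    have h3 := h.comm hxr (hS.comm _ hg _ hx).symm
    exact (((show Commute x g from h3).pow_left i).inv_left.symm).eq
  rw [map_mul, map_mul, Module.End.mul_apply, Module.End.mul_apply, key _ (hZ g hg v hv), key v hv,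
    ← Module.End.mul_apply, ← Module.End.mul_apply, ← map_mul, ← map_mul, hgx]

/-- an element of `S₂` of order `r` with small commutator space forces a contradiction -/
theorem Cfg.big₂ (h : Cfg Q c r n π ρ A) (hS : TwoFac A S₁ S₂) {x : G} (hx : π x ∈ S₂) (hxr : x ^ r = 1)
    (hx1 : x ≠ 1) {y : G} (hy : π y ∈ S₁) (hyr : y ^ r = 1) (hy1 : y ≠ 1) : 2 * n ≤ finrank F (cm (ρ x)) := by
  by_contra hlt
  have hn3 := h.n3
  have hdim := h.dim
  -- `dim [V, x] = n`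
  have hcard : ∀ z : G, z ^ r = 1 → z ≠ 1 → ¬ 2 * n ≤ finrank F (cm (ρ z)) → finrank F (cm (ρ z)) = n := by
    intro z hz hz1 hlt
    obtain ⟨k, hk⟩ := h.rd.dvd_cm (h.rpow hz)
    have h1 := h.rd.le_cm (h.rpow hz) (h.rne hz1)
    have h2 : k < 2 := by
      by_contra hcon
      apply hlt
      rw [hk, mul_comm]
      exact Nat.mul_le_mul_left n (by omega)
    have h3 : k ≠ 0 := by
      rintro rfl
      omega
    have h4 : k = 1 := by omega
    rw [hk, h4, mul_one]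
  have hdx := hcard x hxr hx1 hlt
  -- a vector of norm `c` fixed by an element with small commutator space
  have hfix : ∀ z : G, z ^ r = 1 → finrank F (cm (ρ z)) = n → ∃ w, Q w = c ∧ w ∈ fx (ρ z) := by
    intro z hz hd
    have h1 := finrank_fx_add_cm h.rd.ne0 (h.rpow hz)
    obtain ⟨w, hw, -, hwc⟩ := h.uni (fx (ρ z)) (nondeg_fx h.nondeg (h.iso z) h.rd.ne0 (h.rpow hz)) (by omega) c
    exact ⟨w, hwc, hw⟩
  obtain ⟨w, hwc, hw⟩ := hfix x hxr hdx
  have hxy' : Commute (ρ x) (ρ y) := h.comm' hxr (hS.comm _ hy _ hx).symm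
  -- `y` is trivial on `[V, x]`
  have htriv : cm (ρ x) ≤ fx (ρ y) := by
    refine h.triv hS hx hxr hy hyr inv_cm (fun g hg => ?_) hdx (inf_fx_of_le_cm h.rd.ne0 (h.rpow hxr) le_rfl)
    exact inv_cm_of_commute (h.comm' hxr (hS.comm _ hg _ hx).symm).symm
  have hdy : finrank F (cm (ρ y)) = n := by
    refine hcard y hyr hy1 fun h1 => ?_
    -- otherwise `y` fixes nothing of norm `c`, but `[V, x]` contains vectors of norm `c`
    obtain ⟨u, hu, -, huc⟩ := h.uni (cm (ρ x)) (nondeg_cm h.nondeg (h.iso x) h.rd.ne0 (h.rpow hxr)) (by omega) c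
    exact h.nb y hyr h1 u huc (mem_fx.1 (htriv hu))
  obtain ⟨w', hwc', hw'⟩ := hfix y hyr hdy
  obtain ⟨a, ha, haw⟩ := h.tr w w' hwc hwc'
  -- `y' = a⁻¹ y a` fixes `w`
  set y' := a⁻¹ * y * a with hy'
  have hy'r : y' ^ r = 1 := by
    have : y' = a⁻¹ * y * a⁻¹⁻¹ := by rw [inv_inv]
    rw [this, conj_pow, hyr, mul_one, mul_inv_cancel]
  have hy'1 : y' ≠ 1 := by
    intro h1
    apply hy1
    have : y = a * y' * a⁻¹ := by rw [hy']; group
    rw [this, h1, mul_one, mul_inv_cancel]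
  have hy'S : π y' ∈ S₁ := by
    have h1 := hS.norm₁ (π a)⁻¹ (A.inv_mem ha) _ hy
    rw [hy', map_mul, map_mul, map_inv]
    rwa [inv_inv] at h1
  have hy'w : ρ y' w = w := by
    rw [hy', map_mul, map_mul, Module.End.mul_apply, Module.End.mul_apply]
    have h1 : ρ y (ρ a w) = ρ a w := by
      rcases haw with h2 | h2
      · rw [h2]; exact mem_fx.1 hw'
      · rw [h2, map_neg, mem_fx.1 hw']
    rw [h1, ← Module.End.mul_apply, ← map_mul, inv_mul_cancel, map_one]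
    rfl
  have hcxy : x * y' = y' * x := h.comm hxr (hS.comm _ hy'S _ hx).symm
  have hcom : Commute (ρ x) (ρ y') := by
    show ρ x * ρ y' = ρ y' * ρ x
    rw [← map_mul, hcxy, map_mul]
  obtain ⟨i, j, hij⟩ := h.rd.exists_big (h.rpow hxr) (h.rpow hy'r) hcom (h.rne hy'1) (by
    intro i hi
    rw [← map_pow, ← map_mul] at hi
    have h1 : x * y' ^ i = 1 := h.inj (by rw [hi, map_one])
    have h2 : π x * π y' ^ i = 1 := by rw [← map_pow, ← map_mul, h1, map_one]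
    have h3 : π x ∈ S₁ := by
      rw [mul_eq_one_iff_eq_inv] at h2
      rw [h2]
      exact S₁.inv_mem (S₁.pow_mem hy'S i)
    exact h.pne hxr hx1 (hS.inf h3 hx))
  refine h.nb (x ^ i * y' ^ j) ?_ ?_ w hwc ?_
  · have hc : Commute x y' := hcxy
    rw [(hc.pow_pow i j).mul_pow, ← pow_mul, ← pow_mul, mul_comm i, mul_comm j, pow_mul, pow_mul, hxr, hy'r, one_pow,
      one_pow, one_mul]
  · rw [map_mul, map_pow, map_pow]
    exact hij
  · exact mem_fx.1 (mem_fx_mul (mem_fx_pow hw i) (mem_fx_pow (mem_fx.2 hy'w) j))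

end Cfsg.Agent.H899.Pt
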