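import Mathlib.GroupTheory.Transfer
import Mathlib.GroupTheory.Subgroup.Simple
import Mathlib.Tactic
import Cfsg.Agent.Solvable.UniqueOrderP

/-!
# A simple group without `C_r × C_r`, `r` odd: some element normalises but does not centralise a subgroup of order `r`
(helper899, S3679)
-/

set_option autoImplicit false

namespace Cfsg.Agent.H899.Pt

open Subgroup

variable {S : Type*} [Group S] [Finite S] {r : ℕ}

theorem uniqueP_of_noSq (hr : r.Prime) (hc : ∀ x y : S, orderOf x = r → orderOf y = r → x * y = y * x → y ∈ zpowers x)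
    (P : Sylow r S) : Cfsg.Agent.Solvable.UniqueOrderP.UniqueP r P := by
  have hF := Fact.mk hr
  intro x y hx hxr hyr
  by_cases hy : y = 1
  · rw [hy]; exact one_mem _
  have ho : ∀ w : P, w ≠ 1 → w ^ r = 1 → orderOf w = r := fun w hw hwr => orderOf_eq_prime hwr hw
  have hPn : Nontrivial P := ⟨⟨x, 1, hx⟩⟩
  have hcn := P.isPGroup'.center_nontrivial (G := P)
  have hdv : r ∣ Nat.card (center P) := by
    rcases (P.isPGroup'.to_subgroup (center P)).card_eq_or_dvd with h4 | h4
    · exact absurd h4 (Finite.one_lt_card).ne'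
    · exact h4
  obtain ⟨z, hz⟩ := exists_prime_orderOf_dvd_card' r hdv
  have hzo : orderOf ((z : P) : S) = r := by rw [Subgroup.orderOf_coe, Subgroup.orderOf_coe, hz]
  have key : ∀ w : P, w ≠ 1 → w ^ r = 1 → zpowers (w : S) = zpowers ((z : P) : S) := by
    intro w hw hwr
    have hwo : orderOf (w : S) = r := by rw [Subgroup.orderOf_coe, ho w hw hwr]
    have h1 : (w : S) ∈ zpowers ((z : P) : S) := by
      refine hc _ _ hzo hwo ?_
      exact (congrArg (fun t : P => (t : S)) (mem_center_iff.1 z.2 w)).symm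
    refine Subgroup.eq_of_le_of_card_ge (zpowers_le.2 h1) ?_
    rw [Nat.card_zpowers, Nat.card_zpowers, hzo, hwo]
  have h1 : (y : S) ∈ zpowers (x : S) := by
    rw [key x hx hxr, ← key y hy hyr]
    exact mem_zpowers _
  obtain ⟨i, hi⟩ := mem_zpowers_iff.1 h1
  exact mem_zpowers_iff.2 ⟨i, Subtype.ext (by push_cast; exact hi)⟩

theorem exists_norm [IsSimpleGroup S] (hna : ¬ ∀ a b : S, a * b = b * a) (hr : r.Prime) (hr2 : r ≠ 2)
    (hd : r ∣ Nat.card S)
    (hc : ∀ x y : S, orderOf x = r → orderOf y = r → x * y = y * x → y ∈ zpowers x) :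
    ∃ y g : S, orderOf y = r ∧ g * y * g⁻¹ ∈ zpowers y ∧ g * y * g⁻¹ ≠ y := by
  classical
  have hF := Fact.mk hr
  by_contra hcon
  push Not at hcon
  let P : Sylow r S := default
  have hPcyc : IsCyclic P := Solvable.UniqueOrderP.isCyclic_of_uniqueP hr2 P.isPGroup' (uniqueP_of_noSq hr hc P)
  obtain ⟨w, hw⟩ := hPcyc.exists_generator
  have hPd : r ∣ Nat.card P := by
    have h1 := P.card_eq_multiplicity
    rw [h1]
    exact dvd_pow_self _ (Nat.Prime.factorization_pos_of_dvd hr Nat.card_pos.ne' hd).ne'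
  have hwo : orderOf w = Nat.card P := orderOf_eq_card_of_forall_mem_zpowers hw
  obtain ⟨t, ht⟩ := (IsPGroup.iff_card (p := r)).1 P.isPGroup'
  have ht0 : t ≠ 0 := by
    rintro rfl
    rw [ht, pow_zero] at hPd
    exact hr.one_lt.ne' (Nat.dvd_one.1 hPd)
  obtain ⟨s, rfl⟩ := Nat.exists_eq_succ_of_ne_zero ht0
  have hws : orderOf (w : S) = r ^ (s + 1) := by rw [Subgroup.orderOf_coe, hwo, ht]
  have hy0 : orderOf ((w : S) ^ r ^ s) = r := by
    rw [orderOf_pow' _ (pow_ne_zero _ hr.ne_zero), hws, Nat.gcd_eq_right (pow_dvd_pow r (Nat.le_succ s)), pow_succ,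
      Nat.mul_div_cancel_left _ (pow_pos hr.pos s)]
  -- the normalizer centralises
  have hNC : Subgroup.normalizer ((P : Subgroup S) : Set S) ≤ Subgroup.centralizer ((P : Subgroup S) : Set S) := by
    intro n hn
    -- `n w n⁻¹ = w ^ k`
    have hnw : n * w * n⁻¹ ∈ (P : Subgroup S) := (Subgroup.mem_normalizer_iff.1 hn (w : S)).1 w.2
    obtain ⟨k, hk⟩ := mem_zpowers_iff.1 (hw ⟨_, hnw⟩)
    have hk1 : (w : S) ^ k = n * w * n⁻¹ := by
      have := congrArg Subtype.val hk
      push_cast at this
      exact this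
    have hkj : ∀ j : ℕ, n ^ j * w * (n ^ j)⁻¹ = (w : S) ^ (k ^ j) := by
      intro j
      induction j with
      | zero => simp
      | succ j ih =>
        have h1 : n ^ (j + 1) * (w : S) * (n ^ (j + 1))⁻¹ = n * (n ^ j * w * (n ^ j)⁻¹) * n⁻¹ := by
          rw [pow_succ']; group
        rw [h1, ih, ← conj_zpow, ← hk1, ← zpow_mul, pow_succ']
    -- `k ≡ 1 mod r`
    have hk2 : (r : ℤ) ∣ k - 1 := by
      have h1 : n * (w : S) ^ r ^ s * n⁻¹ = ((w : S) ^ r ^ s) ^ k := by
        rw [← conj_pow, ← hk1, ← zpow_natCast, ← zpow_natCast, ← zpow_mul, ← zpow_mul, mul_comm]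
      have h2 := hcon _ n hy0 (by rw [h1]; exact zpow_mem (mem_zpowers _) k)
      rw [h1] at h2
      have h3 : ((w : S) ^ r ^ s) ^ (k - 1) = 1 := by rw [zpow_sub, zpow_one, h2, mul_inv_cancel]
      have h4 := orderOf_dvd_iff_zpow_eq_one.2 h3
      rwa [hy0] at h4
    -- a power of `n` prime to `r` centralises
    obtain ⟨d, hd1, hd2⟩ : ∃ d : ℕ, ¬ r ∣ d ∧ n ^ d * w * (n ^ d)⁻¹ = (w : S) := by
      let f := Subgroup.normalizerMonoidHom (P : Subgroup S)
      refine ⟨orderOf (f ⟨n, hn⟩), ?_, ?_⟩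
      · intro h1
        have h2 : orderOf (f ⟨n, hn⟩) ∣ Nat.card f.range := by
          have : orderOf (⟨f ⟨n, hn⟩, ⟨_, rfl⟩⟩ : f.range) = orderOf (f ⟨n, hn⟩) := by
            rw [← Subgroup.orderOf_coe]
          rw [← this]
          exact orderOf_dvd_natCard _
        have h3 : Nat.card f.range = f.ker.index := (Subgroup.index_ker f).symm
        have h4 : (P : Subgroup S).subgroupOf (Subgroup.normalizer ((P : Subgroup S) : Set S)) ≤ f.ker := by
          intro a ha
          rw [Subgroup.mem_subgroupOf] at ha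
          rw [MonoidHom.mem_ker]
          apply MulEquiv.ext
          intro b
          apply Subtype.ext
          show (a : S) * b * (a : S)⁻¹ = b
          have hcomm : (⟨a, ha⟩ : P) * b = b * ⟨a, ha⟩ := by
            have := hPcyc.isMulCommutative
            exact this.is_comm.comm _ _
          have h5 : (a : S) * b = b * a := congrArg Subtype.val hcomm
          rw [h5, mul_inv_cancel_right]
        have h5 : f.ker.index ∣ ((P : Subgroup S).subgroupOf
            (Subgroup.normalizer ((P : Subgroup S) : Set S))).index := Subgroup.index_dvd_of_le h4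
        have h6 : ((P : Subgroup S).subgroupOf (Subgroup.normalizer ((P : Subgroup S) : Set S))).index ∣
            (P : Subgroup S).index := by
          have : (P : Subgroup S).relIndex (Subgroup.normalizer ((P : Subgroup S) : Set S)) ∣ (P : Subgroup S).index :=
            Subgroup.relIndex_dvd_index_of_le Subgroup.le_normalizer
          exact this
        exact P.not_dvd_index (h1.trans ((h2.trans (h3 ▸ h5)).trans h6))
      · have h1 : f (⟨n, hn⟩ ^ orderOf (f ⟨n, hn⟩)) = 1 := by rw [map_pow, pow_orderOf_eq_one]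
        have h2 := congrArg (fun e : MulAut P => ((e w : P) : S)) h1
        exact h2
    have h1 : ((r ^ (s + 1) : ℕ) : ℤ) ∣ k ^ d - 1 := by
      rw [hkj d] at hd2
      have h3 : (w : S) ^ (k ^ d - 1) = 1 := by rw [zpow_sub, zpow_one, hd2, mul_inv_cancel]
      have h4 := orderOf_dvd_iff_zpow_eq_one.2 h3
      rwa [hws] at h4
    have h2 : k ^ d - 1 = (k - 1) * ∑ i ∈ Finset.range d, k ^ i := (mul_geom_sum k d).symm
    have h3 : (∑ i ∈ Finset.range d, k ^ i) ≡ d [ZMOD r] := by
      have h4 : k ≡ 1 [ZMOD r] := (Int.modEq_iff_dvd.2 (by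
        have := dvd_neg.2 hk2
        rwa [neg_sub] at this))
      calc (∑ i ∈ Finset.range d, k ^ i) ≡ ∑ i ∈ Finset.range d, (1 : ℤ) [ZMOD r] := by
            refine Int.ModEq.sum fun i _ => ?_
            have := h4.pow i
            rwa [one_pow] at this
        _ = d := by simp
    have h4 : IsCoprime ((r ^ (s + 1) : ℕ) : ℤ) (∑ i ∈ Finset.range d, k ^ i) := by
      push_cast
      apply IsCoprime.pow_left
      rw [(Nat.prime_iff_prime_int.1 hr).coprime_iff_not_dvd]
      intro h5
      apply hd1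
      have h6 : (r : ℤ) ∣ d := (h3.dvd_iff).1 h5
      exact_mod_cast h6
    have h5 : ((r ^ (s + 1) : ℕ) : ℤ) ∣ k - 1 := by
      rw [h2] at h1
      exact h4.dvd_of_dvd_mul_right h1
    have h6 : (w : S) ^ (k - 1) = 1 := by
      apply orderOf_dvd_iff_zpow_eq_one.1
      rwa [hws]
    have h7 : n * (w : S) * n⁻¹ = w := by
      rw [← hk1]
      rwa [zpow_sub, zpow_one, mul_inv_eq_one] at h6
    rw [Subgroup.mem_centralizer_iff]
    intro h hh
    obtain ⟨j, hj⟩ := mem_zpowers_iff.1 (hw ⟨h, hh⟩)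
    have hj1 : (w : S) ^ j = h := by
      have := congrArg Subtype.val hj
      push_cast at this
      exact this
    have h8 : n * (w : S) = w * n := by
      rwa [mul_inv_eq_iff_eq_mul] at h7
    rw [← hj1]
    exact ((show Commute n (w : S) from h8).zpow_right j).symm
  have hcompl := MonoidHom.ker_transferSylow_isComplement' P hNC
  have hnd := MonoidHom.not_dvd_card_ker_transferSylow P hNC
  rcases (inferInstance : (MonoidHom.transferSylow P hNC).ker.Normal).eq_bot_or_eq_top with h | h
  · have h1 := hcompl.card_mul_card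
    rw [h, Subgroup.card_bot, one_mul] at h1
    have h2 : (P : Subgroup S) = ⊤ := Subgroup.eq_top_of_card_eq _ h1
    apply hna
    intro a b
    have ha : a ∈ (P : Subgroup S) := by rw [h2]; trivial
    have hb : b ∈ (P : Subgroup S) := by rw [h2]; trivial
    have hcomm : (⟨a, ha⟩ : P) * ⟨b, hb⟩ = ⟨b, hb⟩ * ⟨a, ha⟩ := by
      have := hPcyc.isMulCommutative
      exact this.is_comm.comm _ _
    exact congrArg Subtype.val hcomm
  · rw [h] at hnd
    apply hnd
    rw [Subgroup.card_top]
    exact hd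

end Cfsg.Agent.H899.Pt
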