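import Cfsg.Agent.H899.Pt.Env
import Cfsg.Agent.H899.Pt.ConjS

/-!
# Factorizations: fixed point free elements of order `r` of the factors (helper899, S3679)

`Env` with `dim V = 2 n` and all elements of order `r` of `S₁`, `S₂` fixed point free, `G` the full isometry group of a
nondegenerate form: all elements `x ∈ S₂`, `y ∈ S₁` of order `r` are conjugate up to powers (`Env.conj1`).
-/

set_option autoImplicit false
set_option linter.unusedSectionVars false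
set_option linter.unusedVariables false

namespace Cfsg.Agent.H899.Pt

open Module Cfsg.Agent.H951 Cfsg.Agent.H884.Cg Cfsg.Agent.H899.CG

variable {T G : Type*} [Group T] [Finite T] [Group G] {F : Type*} [Field F] [Fintype F] {V : Type*} [AddCommGroup V]
  [Module F V] [FiniteDimensional F V]
variable {r n : ℕ} {π : G →* T} {ρ : G →* Module.End F V} {A S₁ S₂ : Subgroup T}

/-- all elements of order `r` of the factors are fixed point free -/
def Fpf (r : ℕ) (π : G →* T) (ρ : G →* Module.End F V) (S₁ S₂ : Subgroup T) : Prop :=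
  ∀ z, π z ∈ S₁ ∨ π z ∈ S₂ → z ^ r = 1 → z ≠ 1 → fx (ρ z) = ⊥

omit [Finite T] in
theorem Fpf.symm (h : Fpf r π ρ S₁ S₂) : Fpf r π ρ S₂ S₁ := fun z hz => h z hz.symm

theorem Env.noSq₁ (h : Env r n π ρ) (hfp : Fpf r π ρ S₁ S₂) (hV : (⊤ : Submodule F V) ≠ ⊥) : NoSq S₁ r := by
  intro s hs t ht hsr htr hc
  obtain ⟨s, rfl, hs1, hs2⟩ := h.lift_ne hsr
  obtain ⟨t, rfl, ht1, ht2⟩ := h.lift_ne htr
  have hst : Commute s t := h.comm hs1 hc
  have hft := hfp t (Or.inl ht) ht1 ht2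
  obtain ⟨i, hi, hne⟩ := exists_fixed (W := (⊤ : Submodule F V)) h.rd.prime h.rd.ne0 (h.rpow hs1) (h.rpow ht1)
    (h.comm' hs1 hc) (fun _ _ => trivial) (fun _ _ => trivial) hV (by rw [hft, inf_bot_eq])
  have h1 : s * t ^ i = 1 := by
    by_contra h2
    apply hne
    rw [← map_pow, ← map_mul, hfp (s * t ^ i) (Or.inl (by
      rw [map_mul, map_pow]
      exact S₁.mul_mem hs (S₁.pow_mem ht i))) (by
      have hc2 : Commute s (t ^ i) := hst.pow_right i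
      rw [hc2.mul_pow, hs1, ← pow_mul, mul_comm, pow_mul, ht1, one_pow, one_mul]) h2, inf_bot_eq]
  have h2 : π s ∈ Subgroup.zpowers (π t) := by
    have h3 : s = (t ^ i)⁻¹ := mul_eq_one_iff_eq_inv.1 h1
    rw [h3, map_inv, map_pow]
    exact inv_mem (pow_mem (Subgroup.mem_zpowers _) i)
  have h3 : Subgroup.zpowers (π s) = Subgroup.zpowers (π t) := by
    refine Subgroup.eq_of_le_of_card_ge (Subgroup.zpowers_le.2 h2) ?_
    rw [Nat.card_zpowers, Nat.card_zpowers, hsr, htr]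
  rw [h3]
  exact Subgroup.mem_zpowers _

/-- the normalising element -/
theorem Env.exists_yg (h : Env r n π ρ) (hS : TwoFac A S₁ S₂) (hno : NoSq S₁ r) (hd : r ∣ Nat.card S₁) :
    ∃ y g : G, ∃ k : ℕ, π y ∈ S₁ ∧ π g ∈ S₁ ∧ y ^ r = 1 ∧ y ≠ 1 ∧ g * y = y ^ k * g ∧ y ^ k ≠ y := by
  have := hS.simple₁
  obtain ⟨y, g, h1, h2, h3⟩ := exists_norm (S := S₁) (fun h4 => hS.na₁ fun a ha b hb =>
    congrArg Subtype.val (h4 ⟨a, ha⟩ ⟨b, hb⟩)) h.rd.prime (by have := h.rd.two_lt; omega) hd (by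
    intro s t hs ht hst
    have h4 := hno s s.2 t t.2 (by rw [Subgroup.orderOf_coe, hs]) (by rw [Subgroup.orderOf_coe, ht])
      (congrArg Subtype.val hst)
    obtain ⟨i, hi⟩ := Subgroup.mem_zpowers_iff.1 h4
    exact Subgroup.mem_zpowers_iff.2 ⟨i, Subtype.ext (by push_cast; exact hi)⟩)
  obtain ⟨k, hk⟩ := mem_powers_iff_mem_zpowers.2 h2
  have hk' : y ^ k = g * y * g⁻¹ := hk
  obtain ⟨ŷ, hy1, hy2, hy3⟩ := h.lift_ne (t := (y : T)) (by rw [Subgroup.orderOf_coe, h1])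
  obtain ⟨ĝ, hg⟩ := h.surj (g : T)
  have hy1S : π ŷ ∈ S₁ := by rw [hy1]; exact y.2
  have hkk : π (ŷ ^ k) = π (ĝ * ŷ * ĝ⁻¹) := by
    rw [map_pow, map_mul, map_mul, map_inv, hg, hy1]
    have := congrArg Subtype.val hk'
    push_cast at this
    exact this
  have hyk : (ŷ ^ k) ^ r = 1 := by rw [← pow_mul, mul_comm, pow_mul, hy2, one_pow]
  have hcr : (ĝ * ŷ * ĝ⁻¹) ^ r = 1 := by rw [conj_pow, hy2, mul_one, mul_inv_cancel]
  have hz1 : π ((ŷ ^ k)⁻¹ * (ĝ * ŷ * ĝ⁻¹)) = 1 := by rw [map_mul, map_inv, hkk, inv_mul_cancel]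
  have hz : (ŷ ^ k)⁻¹ * (ĝ * ŷ * ĝ⁻¹) = 1 := by
    by_contra hne
    refine h.pne ?_ hne hz1
    obtain ⟨h5, h6⟩ := h.ker _ hz1
    set z := (ŷ ^ k)⁻¹ * (ĝ * ŷ * ĝ⁻¹) with hz
    have h7 : ĝ * ŷ * ĝ⁻¹ = ŷ ^ k * z := by rw [hz]; group
    have hcz : Commute (ŷ ^ k) z := (h6 _).symm
    rw [h7, hcz.mul_pow, hyk, one_mul] at hcr
    exact hcr
  have hyk' : ŷ ^ k = ĝ * ŷ * ĝ⁻¹ := by
    rw [inv_mul_eq_one] at hz
    exact hz
  refine ⟨ŷ, ĝ, k, hy1S, by rw [hg]; exact g.2, hy2, hy3, by rw [hyk']; group, fun h4 => h3 ?_⟩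
  apply Subtype.ext
  rw [hyk'] at h4
  have h5 := congrArg π h4
  rw [map_mul, map_mul, map_inv, hg, hy1] at h5
  push_cast
  exact h5

/-- powers of `x` agreeing on a nonzero vector -/
theorem Env.pow_eq (h : Env r n π ρ) (hfp : Fpf r π ρ S₁ S₂) {x : G} (hx : π x ∈ S₂) (hxr : x ^ r = 1) {m l : ℤ} {a : V}
    (ha : a ≠ 0) (hm : ρ (x ^ m) a = ρ (x ^ l) a) : x ^ m = x ^ l := by
  by_contra hne
  have h1 : (x ^ l)⁻¹ * x ^ m ≠ 1 := fun h2 => hne (inv_mul_eq_one.1 h2).symm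
  have h2 : ((x ^ l)⁻¹ * x ^ m) ^ r = 1 := by
    rw [← zpow_neg, ← zpow_add, ← zpow_natCast, ← zpow_mul, mul_comm, zpow_mul, zpow_natCast, hxr, one_zpow]
  have h3 := hfp _ (Or.inr (show π ((x ^ l)⁻¹ * x ^ m) ∈ S₂ by
    rw [map_mul, map_inv, map_zpow, map_zpow]
    exact S₂.mul_mem (S₂.inv_mem (S₂.zpow_mem hx l)) (S₂.zpow_mem hx m))) h2 h1
  apply ha
  have h4 : a ∈ fx (ρ ((x ^ l)⁻¹ * x ^ m)) := by
    rw [mem_fx, rho_mul, hm, rho_inv']
  rw [h3] at h4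
  exact h4

/-- elements of `S₁` agreeing on a nonzero vector -/
theorem Env.eq_of (h : Env r n π ρ) (hfp : Fpf r π ρ S₁ S₂) {y z : G} (hy : π y ∈ S₁) (hz : π z ∈ S₁)
    (hc : Commute y z) (hyr : y ^ r = 1) (hzr : z ^ r = 1) {a : V}
    (ha : a ≠ 0) (hm : ρ y a = ρ z a) : y = z := by
  by_contra hne
  have h1 : z⁻¹ * y ≠ 1 := fun h2 => hne (inv_mul_eq_one.1 h2).symm
  have h2 : (z⁻¹ * y) ^ r = 1 := by
    rw [(hc.symm.inv_left).mul_pow, inv_pow, hyr, hzr, inv_one, mul_one]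
  have h3 := hfp _ (Or.inl (show π (z⁻¹ * y) ∈ S₁ by
    rw [map_mul, map_inv]
    exact S₁.mul_mem (S₁.inv_mem hz) hy)) h2 h1
  apply ha
  have h4 : a ∈ fx (ρ (z⁻¹ * y)) := by
    rw [mem_fx, rho_mul, hm, rho_inv']
  rw [h3] at h4
  exact h4

end Cfsg.Agent.H899.Pt
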