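import Cfsg.Agent.H899.Pt.Env2

/-!
# Factorizations: fixed point free elements of order `r` of the factors, II (helper899, S3679)

* `Env.conj1` : `G` the full isometry group of a nondegenerate form, `dim V = 2 n`, all elements of order `r` of `S₁`,
  `S₂` fixed point free: the elements `x ∈ S₂`, `y ∈ S₁` of order `r` are conjugate up to powers.
-/

set_option autoImplicit false
set_option linter.unusedSectionVars false
set_option linter.unusedVariables false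

namespace Cfsg.Agent.H899.Pt

open Module Cfsg.Agent.H951 Cfsg.Agent.H884.Cg Cfsg.Agent.H899.CG

variable {T G : Type*} [Group T] [Finite T] [Group G] {F : Type*} [Field F] [Fintype F] {V : Type*} [AddCommGroup V]
  [Module F V] [FiniteDimensional F V]
variable {r n : ℕ} {π : G →* T} {ρ : G →* Module.End F V} {A S₁ S₂ : Subgroup T}

/-- `y = x ^ i` on `Z` -/
def Act (ρ : G →* Module.End F V) (x y : G) (i : ℤ) (Z : Submodule F V) : Prop :=
  (∀ v ∈ Z, ρ y v = ρ (x ^ i) v) ∧ ∀ m : ℤ, Inv (ρ (x ^ m)) Z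

omit [Finite T] in
theorem Act.pow {x y : G} {i : ℤ} {Z : Submodule F V} (h : Act ρ x y i Z) (k : ℕ) {v : V} (hv : v ∈ Z) :
    ρ (y ^ k) v = ρ (x ^ (i * k)) v := by
  induction k with
  | zero => simp
  | succ k ih =>
    rw [pow_succ', rho_mul, ih, h.1 _ (h.2 _ v hv), ← rho_mul, ← zpow_add]
    congr 3
    push_cast
    ring

/-- components -/
theorem comp_eq {Z₁ Z₂ : Submodule F V} (hinf : Z₁ ⊓ Z₂ = ⊥) {a a' b b' : V} (ha : a ∈ Z₁) (ha' : a' ∈ Z₁)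
    (hb : b ∈ Z₂) (hb' : b' ∈ Z₂) (h : a + b = a' + b') : a = a' ∧ b = b' := by
  have h1 : a - a' = b' - b := by rw [sub_eq_sub_iff_add_eq_add, h, add_comm]
  have h2 : a - a' ∈ Z₁ ⊓ Z₂ := ⟨Z₁.sub_mem ha ha', by rw [h1]; exact Z₂.sub_mem hb' hb⟩
  rw [hinf] at h2
  have h3 : a - a' = 0 := h2
  exact ⟨sub_eq_zero.1 h3, by rw [h3] at h1; exact (sub_eq_zero.1 h1.symm).symm⟩

/-- an element of `S₁` normalising `⟨y⟩` swaps -/
theorem Env.swap₁ (h : Env r n π ρ) (hfp : Fpf r π ρ S₁ S₂) {x y g : G} {k : ℕ}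
    (hx : π x ∈ S₂) (hxr : x ^ r = 1) (hy : π y ∈ S₁) (hyr : y ^ r = 1) (hxg : Commute x g)
    (hgy : g * y = y ^ k * g) (hyk : y ^ k ≠ y) {i j : ℤ} {Z₁ Z₂ : Submodule F V}
    (h1 : Act ρ x y i Z₁) (h2 : Act ρ x y j Z₂) (hsup : Z₁ ⊔ Z₂ = ⊤) (hinf : Z₁ ⊓ Z₂ = ⊥) {v : V} (hv : v ∈ Z₁) :
    ρ g v ∈ Z₂ ∧ (v ≠ 0 → x ^ (j * k) = x ^ i) := by
  by_cases hv0 : v = 0
  · subst hv0
    rw [map_zero]
    exact ⟨Z₂.zero_mem, fun h => absurd rfl h⟩
  obtain ⟨a, ha, b, hb, hab⟩ := Submodule.mem_sup.1 (show ρ g v ∈ Z₁ ⊔ Z₂ by rw [hsup]; trivial)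
  have h3 : ρ (y ^ k) (ρ g v) = ρ (x ^ i) (ρ g v) := by
    rw [← rho_mul, ← hgy, rho_mul, h1.1 v hv, ← rho_mul, ← rho_mul, (hxg.zpow_left i).eq]
  rw [← hab, map_add, map_add, h1.pow k ha, h2.pow k hb] at h3
  obtain ⟨h6, h7⟩ := comp_eq hinf (h1.2 _ a ha) (h1.2 _ a ha) (h2.2 _ b hb) (h2.2 _ b hb) h3
  have ha0 : a = 0 := by
    by_contra hane
    have h8 := h.pow_eq hfp hx hxr hane h6
    have h9 : ρ (y ^ k) v = ρ y v := by rw [h1.pow k hv, h8, h1.1 v hv]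
    exact hyk (h.eq_of hfp (by rw [map_pow]; exact S₁.pow_mem hy k) hy (Commute.pow_self y k)
      (by rw [← pow_mul, mul_comm, pow_mul, hyr, one_pow]) hyr hv0 h9)
  have hb0 : b ≠ 0 := by
    intro hb0
    rw [ha0, hb0, add_zero] at hab
    exact hv0 (h.injE g (by rw [← hab, map_zero]))
  rw [ha0, zero_add] at hab
  exact ⟨by rw [← hab]; exact hb, fun _ => h.pow_eq hfp hx hxr hb0 h7⟩

/-- an element of `S₂` normalising `⟨x⟩` swaps, and inverts `x` -/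
theorem Env.swap₂ (h : Env r n π ρ) (hfp : Fpf r π ρ S₁ S₂) {x y g : G} {k : ℕ}
    (hx : π x ∈ S₂) (hxr : x ^ r = 1) (hx1 : x ≠ 1) (hyg : Commute y g)
    (hgx : g * x = x ^ k * g) (hxk : x ^ k ≠ x) {i j : ℤ} {Z₁ Z₂ : Submodule F V} (hi : x ^ i ≠ 1)
    (hij : x ^ j = (x ^ i)⁻¹)
    (h1 : Act ρ x y i Z₁) (h2 : Act ρ x y j Z₂) (hsup : Z₁ ⊔ Z₂ = ⊤) (hinf : Z₁ ⊓ Z₂ = ⊥) {v : V} (hv : v ∈ Z₁) :
    ρ g v ∈ Z₂ ∧ (v ≠ 0 → x ^ k = x⁻¹) := by
  by_cases hv0 : v = 0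
  · subst hv0
    rw [map_zero]
    exact ⟨Z₂.zero_mem, fun h => absurd rfl h⟩
  have hxo : orderOf x = r := by
    have := Fact.mk h.rd.prime
    exact orderOf_eq_prime hxr hx1
  have hri : ¬ (r : ℤ) ∣ i := by
    rw [← hxo, orderOf_dvd_iff_zpow_eq_one]
    exact hi
  obtain ⟨a, ha, b, hb, hab⟩ := Submodule.mem_sup.1 (show ρ g v ∈ Z₁ ⊔ Z₂ by rw [hsup]; trivial)
  -- `g x ^ i = x ^ (k i) g`
  have hgxi : g * x ^ i = x ^ (k * i) * g := by
    have h3 : g * x * g⁻¹ = x ^ k := by rw [hgx, mul_assoc, mul_inv_cancel, mul_one]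
    have h4 : g * x ^ i * g⁻¹ = x ^ (k * i) := by
      rw [← conj_zpow, h3, zpow_mul, zpow_natCast]
    rw [← h4, mul_assoc, inv_mul_cancel, mul_one]
  have h3 : ρ y (ρ g v) = ρ (x ^ (k * i)) (ρ g v) := by
    rw [← rho_mul, hyg.eq, rho_mul, h1.1 v hv, ← rho_mul, hgxi, rho_mul]
  rw [← hab, map_add, map_add, h1.1 a ha, h2.1 b hb] at h3
  obtain ⟨h6, h7⟩ := comp_eq hinf (h1.2 _ a ha) (h1.2 _ a ha) (h2.2 _ b hb) (h2.2 _ b hb) h3
  have ha0 : a = 0 := by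
    by_contra hane
    have h8 := h.pow_eq hfp hx hxr hane h6
    have h9 : x ^ (i * (1 - k)) = 1 := by
      rw [mul_sub, mul_one, zpow_sub, h8, mul_comm i, mul_inv_cancel]
    rw [← orderOf_dvd_iff_zpow_eq_one, hxo] at h9
    rcases (Nat.prime_iff_prime_int.1 h.rd.prime).dvd_or_dvd h9 with h10 | h10
    · exact hri h10
    · apply hxk
      rw [← hxo, orderOf_dvd_iff_zpow_eq_one, zpow_sub, zpow_one, zpow_natCast, mul_inv_eq_one] at h10
      exact h10.symm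
  have hb0 : b ≠ 0 := by
    intro hb0
    rw [ha0, hb0, add_zero] at hab
    exact hv0 (h.injE g (by rw [← hab, map_zero]))
  rw [ha0, zero_add] at hab
  refine ⟨by rw [← hab]; exact hb, fun _ => ?_⟩
  have h8 := h.pow_eq hfp hx hxr hb0 h7
  rw [hij] at h8
  have h9 : x ^ (i * (1 + k)) = 1 := by
    rw [mul_add, mul_one, zpow_add, mul_comm i, ← h8, mul_inv_cancel]
  rw [← orderOf_dvd_iff_zpow_eq_one, hxo] at h9
  rcases (Nat.prime_iff_prime_int.1 h.rd.prime).dvd_or_dvd h9 with h10 | h10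
  · exact absurd h10 hri
  · rw [← hxo, orderOf_dvd_iff_zpow_eq_one, zpow_add, zpow_one, zpow_natCast] at h10
    exact (eq_inv_of_mul_eq_one_right h10)

/-- the decomposition -/
theorem Env.split (h : Env r n π ρ) (hS : TwoFac A S₁ S₂) (hfp : Fpf r π ρ S₁ S₂) (hV : finrank F V = 2 * n)
    {x y g : G} {k : ℕ} (hx : π x ∈ S₂) (hxr : x ^ r = 1) (hx1 : x ≠ 1) (hy : π y ∈ S₁) (hg : π g ∈ S₁)
    (hyr : y ^ r = 1) (hy1 : y ≠ 1) (hgy : g * y = y ^ k * g) (hyk : y ^ k ≠ y) :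
    ∃ (w : G) (i j : ℤ), w ^ r = 1 ∧ Act ρ x y i (fx (ρ w)) ∧ Act ρ x y j (cm (ρ w)) ∧ fx (ρ w) ≠ ⊥ ∧ cm (ρ w) ≠ ⊥ ∧
      x ^ i ≠ 1 ∧ x ^ j = (x ^ i)⁻¹ := by
  have hn3 := h.n3
  have hTop : (⊤ : Submodule F V) ≠ ⊥ := by
    intro h1
    have h3 : finrank F (⊤ : Submodule F V) = 0 := by rw [h1, finrank_bot]
    rw [finrank_top] at h3
    omega
  have hxy : Commute x y := h.comm hxr (hS.comm _ hy _ hx).symm
  have hXY : Commute (ρ x) (ρ y) := h.comm' hxr (hS.comm _ hy _ hx).symm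
  have hxg : Commute x g := h.comm hxr (hS.comm _ hg _ hx).symm
  have hfx := hfp x (Or.inr hx) hxr hx1
  have hfy := hfp y (Or.inl hy) hyr hy1
  obtain ⟨i, hi, hne⟩ := exists_fixed (W := (⊤ : Submodule F V)) h.rd.prime h.rd.ne0 (h.rpow hyr) (h.rpow hxr)
    hXY.symm (fun _ _ => trivial) (fun _ _ => trivial) hTop (by rw [hfx, inf_bot_eq])
  rw [top_inf_eq, ← map_pow, ← map_mul] at hne
  set w := y * x ^ i with hw
  have hwr : w ^ r = 1 := by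
    rw [hw, ((hxy.pow_left i).symm).mul_pow, hyr, ← pow_mul, mul_comm, pow_mul, hxr, one_pow, one_mul]
  have hw1 : w ≠ 1 := by
    intro h1
    have h2 : y = (x ^ i)⁻¹ := mul_eq_one_iff_eq_inv.1 h1
    refine h.pne hyr hy1 (hS.inf hy ?_)
    rw [h2, map_inv, map_pow]
    exact S₂.inv_mem (S₂.pow_mem hx i)
  have hsum := finrank_fx_add_cm h.rd.ne0 (h.rpow hwr)
  have hpos : 0 < finrank F (fx (ρ w)) := Nat.pos_of_ne_zero fun h1 => hne (Submodule.finrank_eq_zero.1 h1)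
  have hq : finrank F (cm (ρ w)) = n := by
    rcases h.type hwr hw1 with h1 | h1
    · exact h1
    · omega
  have hXw : ∀ u : G, Commute u x → Commute u y → Commute (ρ u) (ρ w) := by
    intro u h1 h2
    show ρ u * ρ w = ρ w * ρ u
    rw [← map_mul, ← map_mul, hw, (h2.mul_right (h1.pow_right i)).eq]
  have hinv1 : ∀ m : ℤ, Inv (ρ (x ^ m)) (fx (ρ w)) := fun m =>
    inv_fx_of_commute (hXw _ ((Commute.refl x).zpow_left m) (hxy.zpow_left m))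
  have hinv2 : ∀ m : ℤ, Inv (ρ (x ^ m)) (cm (ρ w)) := fun m =>
    inv_cm_of_commute (hXw _ ((Commute.refl x).zpow_left m) (hxy.zpow_left m))
  obtain ⟨j, hj, hZ2⟩ := h.rd.exists_triv (h.rpow hyr) (h.rpow hxr) hXY.symm
    (inv_cm_of_commute (hXw _ hxy.symm (Commute.refl y)))
    (inv_cm_of_commute (hXw _ (Commute.refl x) hxy)) hq (by rw [hfx, inf_bot_eq])
  rw [← map_pow, ← map_mul] at hZ2
  have hcp := isCompl_fx_cm h.rd.ne0 (h.rpow hwr)
  have a1 : Act ρ x y (-i) (fx (ρ w)) := by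
    refine ⟨fun v hv => ?_, hinv1⟩
    rw [zpow_neg, zpow_natCast]
    exact (act_of_fx hxy hv).1
  have a2 : Act ρ x y (-j) (cm (ρ w)) := by
    refine ⟨fun v hv => ?_, hinv2⟩
    rw [zpow_neg, zpow_natCast]
    exact (act_of_fx hxy (hZ2 hv)).1
  have hne2 : cm (ρ w) ≠ ⊥ := fun h1 => by rw [h1, finrank_bot] at hq; omega
  obtain ⟨v₁, hv₁, hv₁0⟩ := (Submodule.ne_bot_iff _).1 hne
  obtain ⟨v₂, hv₂, hv₂0⟩ := (Submodule.ne_bot_iff _).1 hne2
  have e1 := (h.swap₁ hfp hx hxr hy hyr hxg hgy hyk a1 a2 hcp.sup_eq_top hcp.inf_eq_bot hv₁).2 hv₁0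
  have e2 := (h.swap₁ hfp hx hxr hy hyr hxg hgy hyk a2 a1 (by rw [sup_comm]; exact hcp.sup_eq_top)
    (by rw [inf_comm]; exact hcp.inf_eq_bot) hv₂).2 hv₂0
  -- `x ^ i ≠ 1`
  have hxi : x ^ (-i : ℤ) ≠ 1 := by
    intro h1
    have h2 : x ^ i = 1 := by rwa [zpow_neg, inv_eq_one, zpow_natCast] at h1
    rw [hw, h2, mul_one] at hne
    exact hne hfy
  have hyo : orderOf y = r := by
    have := Fact.mk h.rd.prime
    exact orderOf_eq_prime hyr hy1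
  have hxo : orderOf x = r := by
    have := Fact.mk h.rd.prime
    exact orderOf_eq_prime hxr hx1
  have hri : ¬ (r : ℤ) ∣ -i := by
    rw [← hxo, orderOf_dvd_iff_zpow_eq_one]
    exact hxi
  have h1 : x ^ ((-i : ℤ) * ((k : ℤ) * k - 1)) = 1 := by
    have h2 : x ^ ((-i : ℤ) * (k * k)) = x ^ (-i : ℤ) := by
      rw [← mul_assoc, zpow_mul, e2, ← zpow_mul, e1]
    rw [mul_sub, mul_one, zpow_sub, h2, mul_inv_cancel]
  rw [← orderOf_dvd_iff_zpow_eq_one, hxo] at h1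
  have h3 : (r : ℤ) ∣ ((k : ℤ) - 1) * (k + 1) := by
    rcases (Nat.prime_iff_prime_int.1 h.rd.prime).dvd_or_dvd h1 with h4 | h4
    · exact absurd h4 hri
    · have : ((k : ℤ) - 1) * (k + 1) = (k : ℤ) * k - 1 := by ring
      rw [this]
      exact h4
  have h4 : (r : ℤ) ∣ (k : ℤ) + 1 := by
    rcases (Nat.prime_iff_prime_int.1 h.rd.prime).dvd_or_dvd h3 with h4 | h4
    · exfalso
      apply hyk
      rw [← hyo, orderOf_dvd_iff_zpow_eq_one, zpow_sub, zpow_one, zpow_natCast, mul_inv_eq_one] at h4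
      exact h4
    · exact h4
  refine ⟨w, -i, -j, hwr, a1, a2, hne, hne2, hxi, ?_⟩
  rw [← e2]
  have h5 : x ^ ((-i : ℤ) * ((k : ℤ) + 1)) = 1 := by
    rw [← orderOf_dvd_iff_zpow_eq_one, hxo]
    exact h4.mul_left _
  rw [mul_add, mul_one, zpow_add] at h5
  exact mul_eq_one_iff_eq_inv.1 h5

end Cfsg.Agent.H899.Pt
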