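import Cfsg.Agent.H955.QSpace

/-!
# A field of self-adjoint operators with constant norms on `{Q = c}` is the ground field (helper899, S3679)

`EE Q c E` : `E` is a commutative algebra of self-adjoint operators, non-zero elements injective, and
`Q (a v)`, `polar Q (a v) v` are the same for all `v` with `Q v = c ≠ 0`.

* `EE.scal` : every element of `E` is a scalar (if nondegenerate spaces of dimension at least `3` are isotropic and
  `dim V ≥ 4`).
-/

set_option autoImplicit false

namespace Cfsg.Agent.H899.Pt

open Module QuadraticMap Cfsg.Agent.H955 Cfsg.Agent.LieClassical.OrthCore Cfsg.Agent.LieClassical.OrthTrans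

variable {F : Type*} [Field F] [Finite F] {V : Type*} [AddCommGroup V] [Module F V] [FiniteDimensional F V]

structure EE (Q : QuadraticForm F V) (c : F) (E : Subalgebra F (Module.End F V)) : Prop where
  c0 : c ≠ 0
  ex : ∃ v, Q v = c
  comm : ∀ a ∈ E, ∀ b ∈ E, a * b = b * a
  adj : ∀ a ∈ E, ∀ u w, polar Q (a u) w = polar Q u (a w)
  inj : ∀ a ∈ E, a ≠ 0 → Function.Injective a
  inv : ∀ v w, Q v = c → Q w = c → ∀ a ∈ E, Q (a v) = Q (a w) ∧ polar Q (a v) v = polar Q (a w) w

variable {Q : QuadraticForm F V} {c : F} {E : Subalgebra F (Module.End F V)}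

theorem finite_end : Finite (Module.End F V) := by
  have : Finite V := Module.finite_of_finite F
  exact Finite.of_injective (fun f : Module.End F V => (f : V → V)) DFunLike.coe_injective

theorem EE.exists_inv (h : EE Q c E) {l : Module.End F V} (hl : l ∈ E) (hl0 : l ≠ 0) : ∃ a ∈ E, a * l = 1 := by
  have := finite_end (F := F) (V := V)
  have hf : Finite E := inferInstance
  let f : E → E := fun a => ⟨a * l, E.mul_mem a.2 hl⟩
  have hinj : Function.Injective f := by
    intro a b hab
    have h1 : (a : Module.End F V) * l = b * l := congrArg Subtype.val hab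
    rw [h.comm _ a.2 _ hl, h.comm _ b.2 _ hl] at h1
    apply Subtype.ext
    apply LinearMap.ext
    intro v
    exact h.inj l hl hl0 (LinearMap.congr_fun h1 v)
  obtain ⟨a, ha⟩ := Finite.surjective_of_injective hinj 1
  exact ⟨a, a.2, congrArg Subtype.val ha⟩

theorem EE.exists_sq (h : EE Q c E) (h2 : (2 : F) = 0) {a : Module.End F V} (ha : a ∈ E) : ∃ b ∈ E, b * b = a := by
  have := finite_end (F := F) (V := V)
  have hf : Finite E := inferInstance
  have h22 : ∀ x : Module.End F V, x + x = 0 := by
    intro x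
    have : (2 : F) • x = x + x := two_smul F x
    rw [← this, h2, zero_smul]
  let f : E → E := fun b => ⟨b * b, E.mul_mem b.2 b.2⟩
  have hinj : Function.Injective f := by
    intro b d hbd
    have h1 : (b : Module.End F V) * b = d * d := congrArg Subtype.val hbd
    by_contra hne
    have h3 : (b : Module.End F V) - d ≠ 0 := fun h4 => hne (Subtype.ext (sub_eq_zero.1 h4))
    have h4 : ((b : Module.End F V) - d) * (b - d) = 0 := by
      have h5 : ((b : Module.End F V) - d) * (b - d) = b * b + d * d - (b * d + d * b) := by noncomm_ring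
      rw [h5, h.comm _ d.2 _ b.2, h22, h1, h22, sub_zero]
    obtain ⟨v, hv⟩ := h.ex
    have hi := h.inj _ (E.sub_mem b.2 d.2) h3
    have h6 : v = 0 := by
      apply hi
      apply hi
      have h7 := LinearMap.congr_fun h4 v
      rw [map_zero, map_zero]
      exact h7
    rw [h6, QuadraticMap.map_zero] at hv
    exact h.c0 hv.symm
  obtain ⟨b, hb⟩ := Finite.surjective_of_injective hinj ⟨a, ha⟩
  exact ⟨b, b.2, congrArg Subtype.val hb⟩

/-- characteristic two -/
theorem EE.scal_even (h : EE Q c E) (h2 : (2 : F) = 0) {e : Module.End F V} (he : e ∈ E) :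
    ∃ t : F, e = algebraMap F (Module.End F V) t := by
  obtain ⟨v, hv⟩ := h.ex
  have h22 : ∀ x : F, x + x = 0 := fun x => by rw [← two_mul, h2, zero_mul]
  -- `polar (a v) v = 0`
  have hp : ∀ a ∈ E, ∀ w, polar Q (a w) w = 0 := by
    intro a ha w
    obtain ⟨b, hb, rfl⟩ := h.exists_sq h2 ha
    rw [Module.End.mul_apply, h.adj b hb, polar_self', h2, zero_mul]
  obtain ⟨t, ht⟩ : ∃ t : F, t * t = Q (e v) / c := by
    have hinj : Function.Injective (fun t : F => t * t) := by
      intro s t hst
      have h1 : s * s = t * t := hst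
      have h3 : (s - t) * (s - t) = 0 := by
        have : (s - t) * (s - t) = s * s + t * t - (s * t + s * t) := by ring
        rw [this, h22, h1, h22, sub_zero]
      exact sub_eq_zero.1 (mul_self_eq_zero.1 h3)
    exact Finite.surjective_of_injective hinj _
  have ht' : t * t * c = Q (e v) := by rw [ht, div_mul_cancel₀ _ h.c0]
  refine ⟨t, ?_⟩
  by_contra hne
  set l : Module.End F V := e - algebraMap F (Module.End F V) t with hl
  have hlE : l ∈ E := E.sub_mem he (E.algebraMap_mem t)
  have hl0 : l ≠ 0 := fun h1 => hne (sub_eq_zero.1 h1)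
  have hlv : Q (l v) = 0 := by
    have h1 : l v = e v + (-t) • v := by
      rw [hl, LinearMap.sub_apply, Module.algebraMap_end_apply, neg_smul, sub_eq_add_neg]
    rw [h1, Q_add, QuadraticMap.map_smul, hv, polar_smul_right, hp e he v, smul_zero, add_zero, smul_eq_mul,
      show -t * -t * c = t * t * c by ring, ht', h22]
  have hv' : Q (v + l v) = c := by
    rw [Q_add, hlv, hv, add_zero, ← h.adj l hlE, hp l hlE, add_zero]
  obtain ⟨a, haE, hal⟩ := h.exists_inv hlE hl0
  have h1 := (h.inv v (v + l v) hv hv' a haE).1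
  rw [map_add, Q_add] at h1
  have h3 : polar Q (a v) (a (l v)) = 0 := by
    have h4 : a (l v) = (a * l) v := rfl
    rw [h4, hal, Module.End.one_apply]
    exact hp a haE v
  have h4 : Q (a (l v)) = c := by
    have h5 : a (l v) = (a * l) v := rfl
    rw [h5, hal, Module.End.one_apply, hv]
  rw [h3, h4, add_zero] at h1
  exact h.c0 (by simpa using h1)

/-- odd characteristic -/
theorem EE.scal_odd (h : EE Q c E) (h2 : (2 : F) ≠ 0) (hQ : Nondeg Q) (hd : 4 ≤ finrank F V)
    (huni : ∀ Z : Submodule F V, Nondeg (res Q Z) → 3 ≤ finrank F Z → ∃ v ∈ Z, v ≠ 0 ∧ Q v = 0)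
    {e : Module.End F V} (he : e ∈ E) : ∃ t : F, e = algebraMap F (Module.End F V) t := by
  obtain ⟨v, hv⟩ := h.ex
  have hv0 : v ≠ 0 := by
    rintro rfl
    rw [QuadraticMap.map_zero] at hv
    exact h.c0 hv.symm
  have hvv : polar Q v v = 2 * c := by rw [polar_self', hv]
  have hvv0 : polar Q v v ≠ 0 := by rw [hvv]; exact mul_ne_zero h2 h.c0
  -- the line of `v` is nondegenerate
  have hLn : Nondeg (res Q (Submodule.span F {v})) := by
    rw [nondeg_res_iff]
    intro x hx hxy
    obtain ⟨s, rfl⟩ := Submodule.mem_span_singleton.1 hx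
    have h1 := hxy v (Submodule.mem_span_singleton_self v)
    rw [polar_smul_left, smul_eq_mul] at h1
    rcases mul_eq_zero.1 h1 with h3 | h3
    · rw [h3, zero_smul]
    · exact absurd h3 hvv0
  set W := perp Q (Submodule.span F {v}) with hW
  have hWn : Nondeg (res Q W) := nondeg_perp hQ hLn
  have hWd : 3 ≤ finrank F W := by
    have h1 := finrank_add_perp hQ (Submodule.span F {v})
    rw [finrank_span_singleton hv0, ← hW] at h1
    omega
  have hmW : ∀ w, w ∈ W ↔ polar Q v w = 0 := by
    intro w
    rw [hW, mem_perp]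
    constructor
    · intro h1
      exact h1 v (Submodule.mem_span_singleton_self v)
    · rintro h1 x hx
      obtain ⟨s, rfl⟩ := Submodule.mem_span_singleton.1 hx
      rw [polar_smul_left, h1, smul_zero]
  -- `e v ⊥` singular vectors of `W`
  have hsing : ∀ w ∈ W, Q w = 0 → polar Q (e v) w = 0 := by
    intro w hw hw0
    have hw1 := (hmW w).1 hw
    have h1 : Q (v + w) = c := by rw [Q_add, hw0, hw1, hv, add_zero, add_zero]
    have h3 : Q (v + -w) = c := by
      rw [Q_add, QuadraticMap.map_neg, hw0, polar_neg_right, hw1, hv, neg_zero, add_zero, add_zero]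
    have h4 := (h.inv v (v + w) hv h1 e he).2
    have h5 := (h.inv v (v + -w) hv h3 e he).2
    simp only [map_add, map_neg, polar_add_left, polar_add_right, polar_neg_left, polar_neg_right] at h4 h5
    have h6 : polar Q (e w) v = polar Q (e v) w := by rw [h.adj e he, polar_comm]
    rw [h6] at h4 h5
    have h7 : 4 * polar Q (e v) w = 0 := by linear_combination h5 - h4
    have h8 : (4 : F) ≠ 0 := by
      have : (4 : F) = 2 * 2 := by norm_num
      rw [this]
      exact mul_ne_zero h2 h2
    exact (mul_eq_zero.1 h7).resolve_left h8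
  -- the component of `e v` in `W`
  set s : F := polar Q (e v) v / (2 * c) with hs
  set u : V := e v + (-s) • v with hu
  have huW : u ∈ W := by
    rw [hmW, hu, polar_add_right, polar_smul_right, hvv, polar_comm, smul_eq_mul, hs]
    have : (2 : F) * c ≠ 0 := mul_ne_zero h2 h.c0
    rw [neg_mul, div_mul_cancel₀ _ this, add_neg_cancel]
  have hu0 : u = 0 := by
    by_contra hne
    -- a hyperbolic pair of `W`
    obtain ⟨x, hx, hx0, hxQ⟩ := huni W hWn hWd
    obtain ⟨y, hy⟩ := exists_hyp (Q := res Q W) (x := ⟨x, hx⟩) hWn hxQ (fun h1 => hx0 (congrArg Subtype.val h1))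
    obtain ⟨w, hw, hw1⟩ := exists_sing_polar_one hWn hy (v := ⟨u, huW⟩) (fun h1 => hne (congrArg Subtype.val h1))
    have h1 := hsing w w.2 hw
    have h3 : polar Q u (w : V) = 0 := by
      rw [hu, polar_add_left, h1, polar_smul_left, (hmW w).1 w.2, smul_zero, add_zero]
    have h4 : polar Q u (w : V) ≠ 0 := by
      have h5 : polar (res Q W) ⟨u, huW⟩ w = polar Q u (w : V) := rfl
      first
        | (rw [← h5, hw1]; exact one_ne_zero)
        | (rw [polar_comm] at hw1; rw [← h5, hw1]; exact one_ne_zero)
    exact h4 h3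
  refine ⟨s, ?_⟩
  by_contra hne
  have h1 : e - algebraMap F (Module.End F V) s ≠ 0 := fun h3 => hne (sub_eq_zero.1 h3)
  have h3 := h.inj _ (E.sub_mem he (E.algebraMap_mem s)) h1
  apply hv0
  apply h3
  rw [map_zero, LinearMap.sub_apply, Module.algebraMap_end_apply, ← hu0, hu, neg_smul, sub_eq_add_neg]

end Cfsg.Agent.H899.Pt
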