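import Cfsg.Agent.H899.Pt.Odd
import Cfsg.Agent.H899.Pt.Scal

/-!
# Factorizations by the stabiliser of a nonsingular point, III: even dimension (helper899, S3679)

* `Cfg.false_even` : `dim V = 2 n`: contradiction.
-/

set_option autoImplicit false
set_option linter.unusedSectionVars false
set_option linter.unusedVariables false

namespace Cfsg.Agent.H899.Pt

open Module QuadraticMap Cfsg.Agent.H951 Cfsg.Agent.H884.Cg Cfsg.Agent.H955 Cfsg.Agent.LieClassical.OrthCore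
open Cfsg.Agent.H954.TSing

variable {T G : Type*} [Group T] [Finite T] [Group G] {F : Type*} [Field F] [Fintype F] {V : Type*} [AddCommGroup V]
  [Module F V] [FiniteDimensional F V]
variable {Q : QuadraticForm F V} {c : F} {r n : ℕ} {π : G →* T} {ρ : G →* Module.End F V} {A S₁ S₂ : Subgroup T}

/-- fixed point free -/
theorem Cfg.fpf (h : Cfg Q c r n π ρ A) (hS : TwoFac A S₁ S₂) (hdim : finrank F V = 2 * n) {x y : G}
    (hx : π x ∈ S₂) (hxr : x ^ r = 1) (hx1 : x ≠ 1) (hy : π y ∈ S₁) (hyr : y ^ r = 1) (hy1 : y ≠ 1) :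
    fx (ρ x) = ⊥ := by
  have h1 := h.two_n hS (by omega) hx hxr hx1 hy hyr hy1
  have h2 := finrank_fx_add_cm h.rd.ne0 (h.rpow hxr)
  exact Submodule.finrank_eq_zero.1 (by omega)

theorem Cfg.top_ne (h : Cfg Q c r n π ρ A) (hdim : finrank F V = 2 * n) : (⊤ : Submodule F V) ≠ ⊥ := by
  intro h1
  have hn3 := h.n3
  have h3 : finrank F (⊤ : Submodule F V) = 0 := by rw [h1, finrank_bot]
  rw [finrank_top] at h3
  omega

/-- `S₁` has no `C_r × C_r` -/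
theorem Cfg.noSq (h : Cfg Q c r n π ρ A) (hS : TwoFac A S₁ S₂) (hdim : finrank F V = 2 * n) {x : G}
    (hx : π x ∈ S₂) (hxr : x ^ r = 1) (hx1 : x ≠ 1) : NoSq S₁ r := by
  intro s hs t ht hsr htr hc
  obtain ⟨s, rfl, hs1, hs2⟩ := h.lift_ne hsr
  obtain ⟨t, rfl, ht1, ht2⟩ := h.lift_ne htr
  have hst : Commute s t := h.comm hs1 hc
  have hft := h.fpf hS.symm hdim ht ht1 ht2 hx hxr hx1
  obtain ⟨i, hi, hne⟩ := exists_fixed (W := (⊤ : Submodule F V)) h.rd.prime h.rd.ne0 (h.rpow hs1) (h.rpow ht1)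
    (h.comm' hs1 hc) (fun _ _ => trivial) (fun _ _ => trivial) (h.top_ne hdim) (by rw [hft, inf_bot_eq])
  have h1 : s * t ^ i = 1 := by
    by_contra h2
    apply hne
    rw [← map_pow, ← map_mul, h.fpf hS.symm hdim (x := s * t ^ i) (y := x) (by
      rw [map_mul, map_pow]
      exact S₁.mul_mem hs (S₁.pow_mem ht i)) (by
      have hc2 : Commute s (t ^ i) := hst.pow_right i
      rw [hc2.mul_pow, hs1, ← pow_mul, mul_comm, pow_mul, ht1, one_pow, one_mul]) h2 hx hxr hx1, inf_bot_eq]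
  have h2 : π s ∈ Subgroup.zpowers (π t) := by
    have h3 : s = (t ^ i)⁻¹ := mul_eq_one_iff_eq_inv.1 h1
    rw [h3, map_inv, map_pow]
    exact inv_mem (pow_mem (Subgroup.mem_zpowers _) i)
  have h3 : Subgroup.zpowers (π s) = Subgroup.zpowers (π t) := by
    refine Subgroup.eq_of_le_of_card_ge (Subgroup.zpowers_le.2 h2) ?_
    rw [Nat.card_zpowers, Nat.card_zpowers, hsr, htr]
  rw [h3]
  exact Subgroup.mem_zpowers _

/-- the normalising element -/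
theorem Cfg.exists_yg (h : Cfg Q c r n π ρ A) (hS : TwoFac A S₁ S₂) (hdim : finrank F V = 2 * n) {x : G}
    (hx : π x ∈ S₂) (hxr : x ^ r = 1) (hx1 : x ≠ 1) (hd : r ∣ Nat.card S₁) :
    ∃ y g : G, ∃ k : ℕ, π y ∈ S₁ ∧ π g ∈ S₁ ∧ y ^ r = 1 ∧ y ≠ 1 ∧ g * y = y ^ k * g ∧ y ^ k ≠ y := by
  have := hS.simple₁
  have hno := h.noSq hS hdim hx hxr hx1
  obtain ⟨y, g, h1, h2, h3⟩ := exists_norm (S := S₁) (fun h4 => hS.na₁ fun a ha b hb =>
    congrArg Subtype.val (h4 ⟨a, ha⟩ ⟨b, hb⟩)) h.rd.prime (by have := h.rd.two_lt; omega) hd (by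
    intro s t hs ht hst
    have h4 := hno s s.2 t t.2 (by rw [Subgroup.orderOf_coe, hs]) (by rw [Subgroup.orderOf_coe, ht])
      (congrArg Subtype.val hst)
    obtain ⟨i, hi⟩ := Subgroup.mem_zpowers_iff.1 h4
    exact Subgroup.mem_zpowers_iff.2 ⟨i, Subtype.ext (by push_cast; exact hi)⟩)
  obtain ⟨k, hk⟩ := mem_powers_iff_mem_zpowers.2 h2
  have hk' : y ^ k = g * y * g⁻¹ := hk
  obtain ⟨ŷ, hy1, hy2, hy3⟩ := h.lift_ne (t := (y : T)) (by rw [Subgroup.orderOf_coe, h1])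
  obtain ⟨ĝ, hg⟩ := h.surj (g : T)
  have hy1S : π ŷ ∈ S₁ := by rw [hy1]; exact y.2
  have hkk : π (ŷ ^ k) = π (ĝ * ŷ * ĝ⁻¹) := by
    rw [map_pow, map_mul, map_mul, map_inv, hg, hy1]
    have := congrArg Subtype.val hk'
    push_cast at this
    exact this
  have hyk : (ŷ ^ k) ^ r = 1 := by rw [← pow_mul, mul_comm, pow_mul, hy2, one_pow]
  have hcr : (ĝ * ŷ * ĝ⁻¹) ^ r = 1 := by rw [conj_pow, hy2, mul_one, mul_inv_cancel]
  have hz1 : π ((ŷ ^ k)⁻¹ * (ĝ * ŷ * ĝ⁻¹)) = 1 := by rw [map_mul, map_inv, hkk, inv_mul_cancel]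
  have hz : (ŷ ^ k)⁻¹ * (ĝ * ŷ * ĝ⁻¹) = 1 := by
    by_contra hne
    refine h.pne ?_ hne hz1
    obtain ⟨h5, h6⟩ := h.ker _ hz1
    set z := (ŷ ^ k)⁻¹ * (ĝ * ŷ * ĝ⁻¹) with hz
    have h7 : ĝ * ŷ * ĝ⁻¹ = ŷ ^ k * z := by rw [hz]; group
    have hcz : Commute (ŷ ^ k) z := (h6 _).symm
    rw [h7, hcz.mul_pow, hyk, one_mul] at hcr
    exact hcr
  have hyk' : ŷ ^ k = ĝ * ŷ * ĝ⁻¹ := by
    rw [inv_mul_eq_one] at hz
    exact hz
  refine ⟨ŷ, ĝ, k, hy1S, by rw [hg]; exact g.2, hy2, hy3, by rw [hyk']; group, fun h4 => h3 ?_⟩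
  apply Subtype.ext
  rw [hyk'] at h4
  have h5 := congrArg π h4
  rw [map_mul, map_mul, map_inv, hg, hy1] at h5
  push_cast
  exact h5

end Cfsg.Agent.H899.Pt
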