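import Cfsg.Agent.H899.Pt.Even

/-!
# Factorizations by the stabiliser of a nonsingular point, IV: even dimension, the common trace (helper899, S3679)

* `Cfg.exists_e` : `ρ y + ρ y⁻¹ = ρ (x ^ i) + ρ (x ^ i)⁻¹`.
-/

set_option autoImplicit false
set_option linter.unusedSectionVars false
set_option linter.unusedVariables false

namespace Cfsg.Agent.H899.Pt

open Module QuadraticMap Cfsg.Agent.H951 Cfsg.Agent.H884.Cg Cfsg.Agent.H955 Cfsg.Agent.LieClassical.OrthCore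
open Cfsg.Agent.H954.TSing

variable {T G : Type*} [Group T] [Finite T] [Group G] {F : Type*} [Field F] [Fintype F] {V : Type*} [AddCommGroup V]
  [Module F V] [FiniteDimensional F V]
variable {Q : QuadraticForm F V} {c : F} {r n : ℕ} {π : G →* T} {ρ : G →* Module.End F V} {A S₁ S₂ : Subgroup T}

omit [Finite T] in
theorem rho_mul (g h : G) (v : V) : ρ (g * h) v = ρ g (ρ h v) := by rw [map_mul]; rfl

omit [Finite T] in
theorem rho_inv (g : G) (v : V) : ρ g (ρ g⁻¹ v) = v := by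
  rw [← rho_mul, mul_inv_cancel, map_one]; rfl

omit [Finite T] in
theorem rho_inv' (g : G) (v : V) : ρ g⁻¹ (ρ g v) = v := by
  rw [← rho_mul, inv_mul_cancel, map_one]; rfl

omit [Finite T] in
theorem act_of_fx {x y : G} (hc : Commute x y) {i : ℕ} {v : V} (hv : v ∈ fx (ρ (y * x ^ i))) :
    ρ y v = ρ (x ^ i)⁻¹ v ∧ ρ y⁻¹ v = ρ (x ^ i) v := by
  have h1 : ρ (y * x ^ i) v = v := mem_fx.1 hv
  have h2 : ρ (x ^ i * y) v = v := by rw [(hc.pow_left i).eq]; exact h1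
  constructor
  · rw [rho_mul] at h2
    conv_rhs => rw [← h2]
    rw [rho_inv']
  · rw [rho_mul] at h1
    conv_lhs => rw [← h1]
    rw [rho_inv']

omit [Finite T] in
theorem act_pow_of_fx {x y : G} (hc : Commute x y) {i : ℕ} {v : V} (hv : v ∈ fx (ρ (y * x ^ i))) (k : ℕ) :
    ρ (y ^ k) v = ρ (x ^ (i * k))⁻¹ v := by
  have h1 : v ∈ fx (ρ (y ^ k * x ^ (i * k))) := by
    have h2 := mem_fx_pow hv k
    rwa [((hc.pow_left i).symm).mul_pow, ← pow_mul] at h2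
  exact (act_of_fx (hc.pow_right k) h1).1

theorem Cfg.pow_eq (h : Cfg Q c r n π ρ A) (hS : TwoFac A S₁ S₂) (hdim : finrank F V = 2 * n) {x y : G}
    (hx : π x ∈ S₂) (hxr : x ^ r = 1) (hx1 : x ≠ 1) (hy : π y ∈ S₁) (hyr : y ^ r = 1) (hy1 : y ≠ 1) {m l : ℕ} {a : V}
    (ha : a ≠ 0) (hm : ρ (x ^ m)⁻¹ a = ρ (x ^ l)⁻¹ a) : x ^ m = x ^ l := by
  by_contra hne
  have h1 : x ^ l * (x ^ m)⁻¹ ≠ 1 := fun h2 => hne (mul_inv_eq_one.1 h2).symm
  have h2 : (x ^ l * (x ^ m)⁻¹) ^ r = 1 := by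
    have hc : Commute (x ^ l) (x ^ m)⁻¹ := (Commute.pow_pow_self x l m).inv_right
    rw [hc.mul_pow, inv_pow, ← pow_mul, ← pow_mul, mul_comm l, mul_comm m, pow_mul, pow_mul, hxr, one_pow, one_pow,
      inv_one, mul_one]
  have h3 := h.fpf hS hdim (x := x ^ l * (x ^ m)⁻¹) (by
    rw [map_mul, map_inv, map_pow, map_pow]
    exact S₂.mul_mem (S₂.pow_mem hx l) (S₂.inv_mem (S₂.pow_mem hx m))) h2 h1 hy hyr hy1
  apply ha
  have h4 : a ∈ fx (ρ (x ^ l * (x ^ m)⁻¹)) := by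
    rw [mem_fx, rho_mul, hm, rho_inv]
  rw [h3] at h4
  exact h4

theorem Cfg.swap (h : Cfg Q c r n π ρ A) (hS : TwoFac A S₁ S₂) (hdim : finrank F V = 2 * n) {x y g : G} {k : ℕ}
    (hx : π x ∈ S₂) (hxr : x ^ r = 1) (hx1 : x ≠ 1) (hy : π y ∈ S₁) (hg : π g ∈ S₁) (hyr : y ^ r = 1) (hy1 : y ≠ 1)
    (hgy : g * y = y ^ k * g) (hyk : y ^ k ≠ y) {i j : ℕ} {Z₁ Z₂ : Submodule F V}
    (h1 : Z₁ ≤ fx (ρ (y * x ^ i))) (h2 : Z₂ ≤ fx (ρ (y * x ^ j))) (hsup : Z₁ ⊔ Z₂ = ⊤) (hinf : Z₁ ⊓ Z₂ = ⊥)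
    (hi1 : ∀ m : ℕ, Inv (ρ (x ^ m)⁻¹) Z₁) (hi2 : ∀ m : ℕ, Inv (ρ (x ^ m)⁻¹) Z₂) (h0 : Z₁ ≠ ⊥) :
    x ^ (j * k) = x ^ i := by
  obtain ⟨v, hv, hv0⟩ := (Submodule.ne_bot_iff _).1 h0
  have hxy : Commute x y := h.comm hxr (hS.comm _ hy _ hx).symm
  have hxg : Commute x g := h.comm hxr (hS.comm _ hg _ hx).symm
  obtain ⟨a, ha, b, hb, hab⟩ := Submodule.mem_sup.1 (show ρ g v ∈ Z₁ ⊔ Z₂ by rw [hsup]; trivial)
  have h3 : ρ (y ^ k) (ρ g v) = ρ (x ^ i)⁻¹ (ρ g v) := by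
    rw [← rho_mul, ← hgy, rho_mul, (act_of_fx hxy (h1 hv)).1, ← rho_mul, ← rho_mul,
      ((hxg.pow_left i).inv_left).eq]
  rw [← hab, map_add, map_add, act_pow_of_fx hxy (h1 ha) k, act_pow_of_fx hxy (h2 hb) k] at h3
  have h4 : ρ (x ^ (i * k))⁻¹ a - ρ (x ^ i)⁻¹ a = ρ (x ^ i)⁻¹ b - ρ (x ^ (j * k))⁻¹ b := by
    rw [sub_eq_sub_iff_add_eq_add, h3, add_comm]
  have h5 : ρ (x ^ (i * k))⁻¹ a - ρ (x ^ i)⁻¹ a ∈ Z₁ ⊓ Z₂ := by
    refine ⟨Z₁.sub_mem (hi1 _ a ha) (hi1 _ a ha), ?_⟩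
    rw [h4]
    exact Z₂.sub_mem (hi2 _ b hb) (hi2 _ b hb)
  have h6 : ρ (x ^ (i * k))⁻¹ a = ρ (x ^ i)⁻¹ a := by
    rw [hinf] at h5
    exact sub_eq_zero.1 h5
  have h7 : ρ (x ^ (j * k))⁻¹ b = ρ (x ^ i)⁻¹ b := by
    rw [h6, sub_self] at h4
    exact (sub_eq_zero.1 h4.symm).symm
  have ha0 : a = 0 := by
    by_contra hane
    have h8 := h.pow_eq hS hdim hx hxr hx1 hy hyr hy1 hane h6
    -- `y ^ k = y` on `Z₁`
    have h9 : ρ (y ^ k) v = ρ y v := by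
      rw [act_pow_of_fx hxy (h1 hv) k, h8, (act_of_fx hxy (h1 hv)).1]
    have h10 : y⁻¹ * y ^ k ≠ 1 := fun h11 => hyk (inv_mul_eq_one.1 h11).symm
    have h11 : (y⁻¹ * y ^ k) ^ r = 1 := by
      have hc : Commute y⁻¹ (y ^ k) := (Commute.self_pow y k).inv_left
      rw [hc.mul_pow, inv_pow, ← pow_mul, mul_comm k, pow_mul, hyr, one_pow, inv_one, mul_one]
    have h12 := h.fpf hS.symm hdim (x := y⁻¹ * y ^ k) (by
      rw [map_mul, map_inv, map_pow]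
      exact S₁.mul_mem (S₁.inv_mem hy) (S₁.pow_mem hy k)) h11 h10 hx hxr hx1
    apply hv0
    have h13 : v ∈ fx (ρ (y⁻¹ * y ^ k)) := by rw [mem_fx, rho_mul, h9, rho_inv']
    rw [h12] at h13
    exact h13
  have hb0 : b ≠ 0 := by
    intro hb0
    rw [ha0, hb0, add_zero] at hab
    exact hv0 (h.injE g (by rw [← hab, map_zero]))
  exact h.pow_eq hS hdim hx hxr hx1 hy hyr hy1 hb0 h7

/-- the common trace -/
theorem Cfg.exists_e (h : Cfg Q c r n π ρ A) (hS : TwoFac A S₁ S₂) (hdim : finrank F V = 2 * n) {x y g : G} {k : ℕ}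
    (hx : π x ∈ S₂) (hxr : x ^ r = 1) (hx1 : x ≠ 1) (hy : π y ∈ S₁) (hg : π g ∈ S₁) (hyr : y ^ r = 1) (hy1 : y ≠ 1)
    (hgy : g * y = y ^ k * g) (hyk : y ^ k ≠ y) : ∃ i : ℕ, ρ y + ρ y⁻¹ = ρ (x ^ i) + ρ (x ^ i)⁻¹ := by
  have hn3 := h.n3
  have hxy : Commute x y := h.comm hxr (hS.comm _ hy _ hx).symm
  have hXY : Commute (ρ x) (ρ y) := h.comm' hxr (hS.comm _ hy _ hx).symm
  have hfx := h.fpf hS hdim hx hxr hx1 hy hyr hy1
  have hfy := h.fpf hS.symm hdim hy hyr hy1 hx hxr hx1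
  obtain ⟨i, hi, hne⟩ := exists_fixed (W := (⊤ : Submodule F V)) h.rd.prime h.rd.ne0 (h.rpow hyr) (h.rpow hxr)
    hXY.symm (fun _ _ => trivial) (fun _ _ => trivial) (h.top_ne hdim) (by rw [hfx, inf_bot_eq])
  rw [top_inf_eq, ← map_pow, ← map_mul] at hne
  set w := y * x ^ i with hw
  have hwr : w ^ r = 1 := by
    rw [hw, ((hxy.pow_left i).symm).mul_pow, hyr, ← pow_mul, mul_comm, pow_mul, hxr, one_pow, one_mul]
  have hw1 : w ≠ 1 := by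
    intro h1
    have h2 : y = (x ^ i)⁻¹ := mul_eq_one_iff_eq_inv.1 h1
    refine h.pne hyr hy1 (hS.inf hy ?_)
    rw [h2, map_inv, map_pow]
    exact S₂.inv_mem (S₂.pow_mem hx i)
  have hsum := finrank_fx_add_cm h.rd.ne0 (h.rpow hwr)
  have hpos : 0 < finrank F (fx (ρ w)) := Nat.pos_of_ne_zero fun h1 => hne (Submodule.finrank_eq_zero.1 h1)
  obtain ⟨q, hq⟩ := h.rd.dvd_cm (h.rpow hwr)
  have hle := h.rd.le_cm (h.rpow hwr) (h.rne hw1)
  have hq1 : q = 1 := by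
    have h1 : q < 2 := by
      by_contra hcon
      have := Nat.mul_le_mul_left n (show 2 ≤ q by omega)
      omega
    have h2 : q ≠ 0 := by
      rintro rfl
      omega
    omega
  rw [hq1, mul_one] at hq
  have hcxw : Commute x w := by
    show x * (y * x ^ i) = y * x ^ i * x
    rw [← mul_assoc, hxy.eq, mul_assoc, mul_assoc, (Commute.self_pow x i).eq]
  have hXw : ∀ u : G, Commute u x → Commute u y → Commute (ρ u) (ρ w) := by
    intro u h1 h2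
    show ρ u * ρ w = ρ w * ρ u
    rw [← map_mul, ← map_mul, hw, (h2.mul_right (h1.pow_right i)).eq]
  have hinv1 : ∀ m : ℕ, Inv (ρ (x ^ m)⁻¹) (fx (ρ w)) := fun m =>
    inv_fx_of_commute (hXw _ (((Commute.refl x).pow_left m).inv_left) ((hxy.pow_left m).inv_left))
  have hinv2 : ∀ m : ℕ, Inv (ρ (x ^ m)⁻¹) (cm (ρ w)) := fun m =>
    inv_cm_of_commute (hXw _ (((Commute.refl x).pow_left m).inv_left) ((hxy.pow_left m).inv_left))
  obtain ⟨j, hj, hZ2⟩ := h.rd.exists_triv (h.rpow hyr) (h.rpow hxr) hXY.symm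
    (inv_cm_of_commute (hXw _ hxy.symm (Commute.refl y)))
    (inv_cm_of_commute (hXw _ (Commute.refl x) hxy)) hq (by rw [hfx, inf_bot_eq])
  rw [← map_pow, ← map_mul] at hZ2
  have hcp := isCompl_fx_cm h.rd.ne0 (h.rpow hwr)
  have e1 := h.swap hS hdim hx hxr hx1 hy hg hyr hy1 hgy hyk (le_refl (fx (ρ w))) hZ2 hcp.sup_eq_top hcp.inf_eq_bot
    hinv1 hinv2 hne
  have e2 := h.swap hS hdim hx hxr hx1 hy hg hyr hy1 hgy hyk hZ2 (le_refl (fx (ρ w)))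
    (by rw [sup_comm]; exact hcp.sup_eq_top) (by rw [inf_comm]; exact hcp.inf_eq_bot) hinv2 hinv1
    (fun h1 => by rw [h1, finrank_bot] at hq; omega)
  -- `x ^ i ≠ 1`
  have hxi : x ^ i ≠ 1 := by
    intro h1
    rw [hw, h1, mul_one] at hne
    exact hne hfy
  have hxio : orderOf (x ^ i) = r := by
    have := Fact.mk h.rd.prime
    exact orderOf_eq_prime (by rw [← pow_mul, mul_comm, pow_mul, hxr, one_pow]) hxi
  have hyo : orderOf y = r := by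
    have := Fact.mk h.rd.prime
    exact orderOf_eq_prime hyr hy1
  have h1 : (x ^ i) ^ (k * k) = x ^ i := by
    rw [← pow_mul, ← mul_assoc, pow_mul, e2, ← pow_mul, e1]
  have h2 : (r : ℤ) ∣ (k : ℤ) * k - 1 := by
    rw [← hxio, orderOf_dvd_iff_zpow_eq_one, zpow_sub, zpow_one, ← Nat.cast_mul, zpow_natCast, h1, mul_inv_cancel]
  have h3 : (r : ℤ) ∣ ((k : ℤ) - 1) * (k + 1) := by
    have : ((k : ℤ) - 1) * (k + 1) = (k : ℤ) * k - 1 := by ring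
    rw [this]
    exact h2
  have h4 : (r : ℤ) ∣ (k : ℤ) + 1 := by
    rcases (Nat.prime_iff_prime_int.1 h.rd.prime).dvd_or_dvd h3 with h4 | h4
    · exfalso
      apply hyk
      rw [← hyo, orderOf_dvd_iff_zpow_eq_one, zpow_sub, zpow_one, zpow_natCast, mul_inv_eq_one] at h4
      exact h4
    · exact h4
  have h5 : x ^ j = (x ^ i)⁻¹ := by
    rw [← e2, pow_mul]
    rw [← hxio, orderOf_dvd_iff_zpow_eq_one, zpow_add, zpow_one, zpow_natCast] at h4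
    exact mul_eq_one_iff_eq_inv.1 h4
  refine ⟨i, LinearMap.ext fun v => ?_⟩
  obtain ⟨a, ha, b, hb, rfl⟩ := Submodule.mem_sup.1 (show v ∈ fx (ρ w) ⊔ cm (ρ w) by rw [hcp.sup_eq_top]; trivial)
  have h6 := act_of_fx hxy ha
  have h7 := act_of_fx hxy (hZ2 hb)
  rw [h5, inv_inv] at h7
  simp only [LinearMap.add_apply, map_add, h6.1, h6.2, h7.1, h7.2]
  abel

end Cfsg.Agent.H899.Pt
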