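import Cfsg.Agent.H899.Pt.Even2

/-!
# Factorizations by the stabiliser of a nonsingular point, V: even dimension (helper899, S3679)

* `Cfg.false_even` : `dim V = 2 n`: contradiction.
-/

set_option autoImplicit false
set_option linter.unusedSectionVars false
set_option linter.unusedVariables false

namespace Cfsg.Agent.H899.Pt

open Module QuadraticMap Cfsg.Agent.H951 Cfsg.Agent.H884.Cg Cfsg.Agent.H955 Cfsg.Agent.LieClassical.OrthCore
open Cfsg.Agent.H954.TSing Cfsg.Agent.LieClassical.OrthTrans

variable {T G : Type*} [Group T] [Finite T] [Group G] {F : Type*} [Field F] [Fintype F] {V : Type*} [AddCommGroup V]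
  [Module F V] [FiniteDimensional F V]
variable {Q : QuadraticForm F V} {c : F} {r n : ℕ} {π : G →* T} {ρ : G →* Module.End F V} {A S₁ S₂ : Subgroup T}

omit [Finite T] in
theorem comm_adjoin {e f : Module.End F V} (h : Commute e f) {a : Module.End F V}
    (ha : a ∈ Algebra.adjoin F {e}) : Commute a f := by
  have h1 : Algebra.adjoin F {e} ≤ Subalgebra.centralizer F {f} := by
    refine Algebra.adjoin_le ?_
    intro b hb
    rw [Set.mem_singleton_iff] at hb
    subst hb
    exact Subalgebra.mem_centralizer_iff F |>.2 fun g hg => by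
      rw [Set.mem_singleton_iff] at hg
      subst hg
      exact h.symm
  exact (Subalgebra.mem_centralizer_iff F |>.1 (h1 ha) f rfl).symm

omit [Finite T] in
theorem polar_self_adj_inv (h : Cfg Q c r n π ρ A) (g : G) (u w : V) :
    polar Q (ρ g u) w = polar Q u (ρ g⁻¹ w) := by
  conv_lhs => rw [← rho_inv (ρ := ρ) g w]
  rw [polar_isom (h.iso g)]

theorem Cfg.false_even (h : Cfg Q c r n π ρ A) (hS : TwoFac A S₁ S₂) (hdim : finrank F V = 2 * n)
    (hd₁ : r ∣ Nat.card S₁) (hd₂ : r ∣ Nat.card S₂) : False := by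
  have hn3 := h.n3
  have hF := Fact.mk h.rd.prime
  obtain ⟨x₀, hx₀⟩ := exists_prime_orderOf_dvd_card' r hd₂
  obtain ⟨x, hx, hxr, hx1⟩ := h.lift_ne (t := (x₀ : T)) (by rw [Subgroup.orderOf_coe, hx₀])
  have hxS : π x ∈ S₂ := by rw [hx]; exact x₀.2
  obtain ⟨y, g, k, hy, hg, hyr, hy1, hgy, hyk⟩ := h.exists_yg hS hdim hxS hxr hx1 hd₁
  obtain ⟨i, hi⟩ := h.exists_e hS hdim hxS hxr hx1 hy hg hyr hy1 hgy hyk
  have hxy : Commute x y := h.comm hxr (hS.comm _ hy _ hxS).symm
  have hfx := h.fpf hS hdim hxS hxr hx1 hy hyr hy1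
  have hfy := h.fpf hS.symm hdim hy hyr hy1 hxS hxr hx1
  have hcc : ∀ {u v : G}, Commute u v → Commute (ρ u) (ρ v) := fun {u v} huv => by
    show ρ u * ρ v = ρ v * ρ u
    rw [← map_mul, huv.eq, map_mul]
  set e : Module.End F V := ρ y + ρ y⁻¹ with he
  -- commutation
  have hex : ∀ u : G, Commute x u → Commute e (ρ u) := by
    intro u hu
    rw [hi]
    exact (hcc (hu.pow_left i)).add_left (hcc (hu.pow_left i).inv_left)
  have hey : ∀ u : G, Commute y u → Commute e (ρ u) := by
    intro u hu
    exact (hcc hu).add_left (hcc hu.inv_left)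
  have heA : ∀ a : G, π a ∈ A → Commute e (ρ a) := by
    intro a ha
    obtain ⟨s, t, rfl, hs, ht⟩ := h.exists_dec hS hxS hxr hy hyr ha
    rw [map_mul]
    exact (hex s hs).mul_right (hey t ht)
  -- the algebra
  let E := Algebra.adjoin F {e}
  have heE : e ∈ E := Algebra.self_mem_adjoin_singleton F e
  have hEc : ∀ a ∈ E, ∀ b ∈ E, a * b = b * a := by
    intro a ha b hb
    exact (comm_adjoin (comm_adjoin (Commute.refl e) hb).symm ha).eq
  have hcm : Nondeg (res Q (cm (ρ x))) := nondeg_cm h.nondeg (h.iso x) h.rd.ne0 (h.rpow hxr)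
  have hcmd : finrank F (cm (ρ x)) = 2 * n := h.two_n hS (by omega) hxS hxr hx1 hy hyr hy1
  have hEE : EE Q c E := by
    refine ⟨h.c0, ?_, hEc, ?_, ?_, ?_⟩
    · obtain ⟨v, -, -, hv⟩ := h.uni _ hcm (by omega) c
      exact ⟨v, hv⟩
    · intro a ha
      induction ha using Algebra.adjoin_induction with
      | mem b hb =>
        rw [Set.mem_singleton_iff] at hb
        subst hb
        intro u w
        rw [he, LinearMap.add_apply, LinearMap.add_apply, polar_add_left, polar_add_right,
          polar_self_adj_inv h, polar_self_adj_inv h, inv_inv, add_comm]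
      | algebraMap t =>
        intro u w
        rw [Module.algebraMap_end_apply, Module.algebraMap_end_apply, polar_smul_left, polar_smul_right]
      | add a b ha hb iha ihb =>
        intro u w
        rw [LinearMap.add_apply, LinearMap.add_apply, polar_add_left, polar_add_right, iha, ihb]
      | mul a b ha hb iha ihb =>
        intro u w
        rw [Module.End.mul_apply, iha, ihb, ← Module.End.mul_apply, hEc b hb a ha]
    · intro a ha ha0
      -- the kernel
      have hK : ∀ u : G, Commute x u → Inv (ρ u) (LinearMap.ker a) := by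
        intro u hu v hv
        rw [LinearMap.mem_ker] at hv ⊢
        have h1 : Commute a (ρ u) := comm_adjoin (hex u hu) ha
        rw [← Module.End.mul_apply, h1.eq, Module.End.mul_apply, hv, map_zero]
      have h1 := h.rd.dvd (h.rpow hxr) (hK x (Commute.refl x)) (by rw [hfx, inf_bot_eq])
      obtain ⟨q, hq⟩ := h1
      have h2 : finrank F (LinearMap.ker a) ≤ finrank F V := Submodule.finrank_le _
      have h3 : q < 3 := by
        by_contra hcon
        have := Nat.mul_le_mul_left n (show 3 ≤ q by omega)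
        omega
      have h4 : q = 0 ∨ q = 1 ∨ q = 2 := by omega
      rcases h4 with rfl | rfl | rfl
      · rw [mul_zero] at hq
        exact LinearMap.ker_eq_bot.1 (Submodule.finrank_eq_zero.1 hq)
      · exfalso
        rw [mul_one] at hq
        have h5 := h.triv hS hxS hxr hy hyr (hK x (Commute.refl x))
          (fun u hu => hK u (h.comm hxr (hS.comm _ hu _ hxS).symm)) hq (by rw [hfx, inf_bot_eq])
        rw [hfy] at h5
        rw [le_bot_iff.1 h5, finrank_bot] at hq
        omega
      · exfalso
        apply ha0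
        have h5 : LinearMap.ker a = ⊤ := Submodule.eq_top_of_finrank_eq (by omega)
        exact LinearMap.ker_eq_top.1 h5
    · intro v w hv hw a ha
      obtain ⟨b, hb, hbv⟩ := h.tr v w hv hw
      have h1 : Commute a (ρ b) := comm_adjoin (heA b hb) ha
      have h2 : a (ρ b v) = ρ b (a v) := by
        rw [← Module.End.mul_apply, h1.eq, Module.End.mul_apply]
      rcases hbv with h3 | h3
      · rw [← h3, h2, h.iso, polar_isom (h.iso b)]
        exact ⟨rfl, rfl⟩
      · have h4 : w = -ρ b v := by rw [h3, neg_neg]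
        rw [h4, map_neg, h2, QuadraticMap.map_neg, h.iso, polar_neg_left, polar_neg_right, neg_neg,
          polar_isom (h.iso b)]
        exact ⟨rfl, rfl⟩
  -- scalars
  obtain ⟨t, ht⟩ : ∃ t : F, e = algebraMap F (Module.End F V) t := by
    by_cases h2 : (2 : F) = 0
    · exact hEE.scal_even h2 heE
    · exact hEE.scal_odd h2 h.nondeg (by omega) (fun Z hZ hZ3 => h.uni Z hZ hZ3 0) heE
  obtain ⟨v, -, hv0⟩ : ∃ v ∈ (⊤ : Submodule F V), v ≠ 0 := (Submodule.ne_bot_iff _).1 (h.top_ne hdim)
  let Z := Submodule.span F {v, ρ y v}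
  have hvZ : v ∈ Z := Submodule.subset_span (by simp)
  have hyZ : ρ y v ∈ Z := Submodule.subset_span (by simp)
  have hyy : ρ y (ρ y v) ∈ Z := by
    have h1 : e (ρ y v) = t • ρ y v := by rw [ht, Module.algebraMap_end_apply]
    rw [he, LinearMap.add_apply, rho_inv'] at h1
    have h2 : ρ y (ρ y v) = t • ρ y v - v := by rw [← h1, add_sub_cancel_right]
    rw [h2]
    exact Z.sub_mem (Z.smul_mem t hyZ) hvZ
  have hZi : Inv (ρ y) Z := by
    have h1 : Z ≤ Z.comap (ρ y) := by
      refine Submodule.span_le.2 ?_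
      intro u hu
      rcases hu with rfl | hu
      · exact hyZ
      · rw [Set.mem_singleton_iff] at hu
        subst hu
        exact hyy
    exact fun u hu => h1 hu
  have h1 := h.rd.le_finrank (h.rpow hyr) hZi (by rw [hfy, inf_bot_eq])
    (fun h2 => hv0 (by rw [h2] at hvZ; exact hvZ))
  have h2 : finrank F Z ≤ 2 := by
    classical
    have h3 := finrank_span_finset_le_card (R := F) (M := V) ({v, ρ y v} : Finset V)
    rw [Finset.coe_insert, Finset.coe_singleton] at h3
    exact h3.trans Finset.card_le_two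
  omega

end Cfsg.Agent.H899.Pt
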