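import Cfsg.Agent.H899.Pt.Inst
import Cfsg.Agent.H884.CgFin

/-!
# Factorizations by the stabiliser of a nonsingular point, VII: the standard forms (helper899, S3679)

* `not_fac_plus` : `T = PΩ⁺_{2m}(q)`, `m ≥ 4` even, `(q, m) ≠ (2, 6)`;
* `not_fac_odd` : `T = Ω_{2m+1}(q)`, `m` even, the point is not of plus type.
-/

set_option autoImplicit false

namespace Cfsg.Agent.H899.Pt

open Module QuadraticMap Cfsg Cfsg.Geo Cfsg.Agent.H884.Cg Cfsg.Agent.H955 Cfsg.Agent.LieClassical.OrthCore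
open Cfsg.Agent.LieClassical Cfsg.Agent.LieClassical.OmegaReindex Cfsg.Agent.H899.CG
open Cfsg.Agent.H884.El (pre PP exists_pp)

universe u

variable {F : Type u} [Field F] [Fintype F] {m : ℕ} {S : Type*} [Group S] [Finite S] {l : ℕ}

theorem not_fac_plus (hm : 4 ≤ m) (hme : Even m) (hexc : ¬ (Fintype.card F = 2 ∧ m = 6))
    {A M : Subgroup (POmega F (quadFormPlus m F))} (hS : IsSimpleGroup S) (hSna : ¬ IsMulCommutative S)
    {v : Fin m ⊕ Fin m → F} (hv : quadFormPlus m F v ≠ 0)
    (hM : pre (quadFormPlus m F) M ≤ subspaceStabilizer (Submodule.span F {v})) :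
    ¬ Fac (POmega F (quadFormPlus m F)) A M S l := by
  intro hf
  obtain ⟨r, hr⟩ := exists_pp (q := Nat.card F) (e := m) (by have := H884.El.one_lt_q F; omega) (by omega)
    (by rw [Nat.card_eq_fintype_card]; exact hexc)
  have key : ∀ (A M : Subgroup (POmega F (⇑(quadPlus m F)))), Fac (POmega F (⇑(quadPlus m F))) A M S l →
      ∀ v, quadPlus m F v ≠ 0 → pre (⇑(quadPlus m F)) M ≤ subspaceStabilizer (Submodule.span F {v}) → False :=
    fun A M hf v hv hM => false_pt (H884.El.data_plus hm) (nondeg_iff.2 quadPlus_nondegenerate) hr hme hm hf hS hSna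
      hv hM (Or.inl ⟨H884.El.card_plus m, H884.El.isPlus_quadPlus m⟩)
  rw [coe_quadPlus] at key
  exact key A M hf v hv hM

theorem not_fac_odd (hm : 3 ≤ m) (hme : Even m) (hodd : Odd (Fintype.card F))
    {A M : Subgroup (POmega F (quadFormOdd m F))} (hS : IsSimpleGroup S) (hSna : ¬ IsMulCommutative S)
    {v : Unit ⊕ (Fin m ⊕ Fin m) → F} (hv : quadFormOdd m F v ≠ 0)
    (hM : pre (quadFormOdd m F) M ≤ subspaceStabilizer (Submodule.span F {v}))
    (hP : ¬ IsPlus (res (quadOdd m F) (perp (quadOdd m F) (Submodule.span F {v})))) :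
    ¬ Fac (POmega F (quadFormOdd m F)) A M S l := by
  intro hf
  have hm4 : 4 ≤ m := by
    obtain ⟨k, hk⟩ := hme
    omega
  have h2 : (2 : F) ≠ 0 := by
    intro h2
    have hch : CharP F 2 := CharTwo.of_one_ne_zero_of_two_eq_zero one_ne_zero h2
    obtain ⟨n, -, hn⟩ := FiniteField.card F 2
    rw [hn] at hodd
    exact (Nat.not_odd_iff_even.2 ((Nat.even_pow' n.ne_zero).2 even_two)) hodd
  obtain ⟨r, hr⟩ := exists_pp (q := Nat.card F) (e := m) (by have := H884.El.one_lt_q F; omega) (by omega)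
    (by
      rw [Nat.card_eq_fintype_card]
      rintro ⟨h, -⟩
      rw [h] at hodd
      exact absurd hodd (by decide))
  have key : ∀ (A M : Subgroup (POmega F (⇑(quadOdd m F)))), Fac (POmega F (⇑(quadOdd m F))) A M S l →
      ∀ v, quadOdd m F v ≠ 0 → pre (⇑(quadOdd m F)) M ≤ subspaceStabilizer (Submodule.span F {v}) →
      ¬ IsPlus (res (quadOdd m F) (perp (quadOdd m F) (Submodule.span F {v}))) → False :=
    fun A M hf v hv hM hP => false_pt (H884.El.data_odd hm h2) (nondeg_iff.2 (quadOdd_nondegenerate h2)) hr hme hm4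
      hf hS hSna hv hM (Or.inr ⟨h2, H884.El.card_odd m, hP⟩)
  rw [coe_quadOdd] at key
  exact key A M hf v hv hM hP

end Cfsg.Agent.H899.Pt
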