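import Cfsg.Agent.H899.Pt.Env
import Cfsg.Agent.H899.Pt.ConjS
import Cfsg.Agent.S0204
import Cfsg.Agent.H951.Form

/-!
# Four-subgroups of the factors (helper899, S3679)

* `exists_four` : a non-abelian simple group contains two different commuting involutions;
* `lift_triv` : every element of `S₁` has a lift which is trivial on `Z`, if one element `π y ≠ 1` has one;
* `Env.no_sp4` : symplectic form, `dim V = 8`, `n = 4`, `q` odd: the elements of order `r` of `S₁`, `S₂` are not of type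
  `n`.
-/

set_option autoImplicit false
set_option linter.unusedSectionVars false
set_option linter.unusedVariables false

namespace Cfsg.Agent.H899.Pt

open Module Cfsg.Agent.H951 Cfsg.Agent.H884.Cg Cfsg.Agent.H899.CG

theorem exists_four {S : Type*} [Group S] [Finite S] [IsSimpleGroup S] (hna : ¬ ∀ a b : S, a * b = b * a) :
    ∃ a b : S, a * a = 1 ∧ b * b = 1 ∧ a * b = b * a ∧ a ≠ 1 ∧ b ≠ 1 ∧ a ≠ b := by
  classical
  obtain ⟨E, hE⟩ := Cfsg.Agent.S0204.result (G := S) (fun h => hna (by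
    have := h.isMulCommutative
    exact fun a b => this.is_comm.comm a b))
  have h4 := hE.card_four
  have := Fintype.ofFinite E
  rw [Nat.card_eq_fintype_card] at h4
  obtain ⟨a, ha⟩ := Fintype.exists_ne_of_one_lt_card (by rw [h4]; norm_num) (1 : E)
  obtain ⟨b, hb⟩ : ∃ b : E, b ∉ ({1, a} : Finset E) := by
    by_contra hcon
    push Not at hcon
    have h1 : (Finset.univ : Finset E) ⊆ {1, a} := fun b _ => hcon b
    have h2 := Finset.card_le_card h1
    have h3 := Finset.card_le_two (a := (1 : E)) (b := a)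
    rw [Finset.card_univ, h4] at h2
    omega
  simp only [Finset.mem_insert, Finset.mem_singleton, not_or] at hb
  have hc := IsKleinFour.isMulCommutative (G := E)
  refine ⟨a, b, ?_, ?_, ?_, ?_, ?_, ?_⟩
  · exact congrArg Subtype.val (IsKleinFour.mul_self a)
  · exact congrArg Subtype.val (IsKleinFour.mul_self b)
  · exact congrArg Subtype.val (hc.is_comm.comm a b)
  · exact fun h => ha (Subtype.ext h)
  · exact fun h => hb.1 (Subtype.ext h)
  · exact fun h => hb.2 (Subtype.ext h.symm)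

section Lift

variable {T G : Type*} [Group T] [Group G] {F : Type*} [Field F] [Fintype F] {V : Type*} [AddCommGroup V] [Module F V]
  [FiniteDimensional F V]

theorem lift_triv (π : G →* T) (hπ : Function.Surjective π) (ρ : G →* Module.End F V) {S₁ : Subgroup T}
    (hS : IsSimpleGroup S₁) {y : G} (hyS : π y ∈ S₁) (hy1 : π y ≠ 1) {Z : Submodule F V}
    (hZ : ∀ g, π g ∈ S₁ → Inv (ρ g) Z) (hyZ : Z ≤ fx (ρ y)) : ∀ s ∈ S₁, ∃ g, π g = s ∧ Z ≤ fx (ρ g) := by
  let N : Subgroup S₁ :=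
    { carrier := {s | ∃ g, π g = s ∧ Z ≤ fx (ρ g)}
      mul_mem' := by
        rintro s t ⟨g, hg, hg2⟩ ⟨h, hh, hh2⟩
        refine ⟨g * h, by rw [map_mul, hg, hh]; rfl, fun v hv => ?_⟩
        rw [mem_fx, rho_mul, mem_fx.1 (hh2 hv), mem_fx.1 (hg2 hv)]
      one_mem' := ⟨1, by rw [map_one]; rfl, fun v _ => by rw [mem_fx, map_one]; rfl⟩
      inv_mem' := by
        rintro s ⟨g, hg, hg2⟩
        refine ⟨g⁻¹, by rw [map_inv, hg]; rfl, fun v hv => ?_⟩
        exact mem_fx_inv (hg2 hv) }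
  have hN : N.Normal := by
    refine ⟨fun s hs t => ?_⟩
    obtain ⟨g, hg, hg2⟩ := hs
    obtain ⟨h, hh⟩ := hπ (t : T)
    refine ⟨h * g * h⁻¹, by rw [map_mul, map_mul, map_inv, hh, hg]; rfl, fun v hv => ?_⟩
    have h1 : ρ h⁻¹ v ∈ Z := hZ h⁻¹ (by rw [map_inv, hh]; exact inv_mem t.2) v hv
    rw [mem_fx, rho_mul, rho_mul, mem_fx.1 (hg2 h1), rho_inv]
  rcases hN.eq_bot_or_eq_top with h1 | h1
  · exfalso
    have h2 : (⟨π y, hyS⟩ : S₁) ∈ N := ⟨y, rfl, hyZ⟩
    rw [h1, Subgroup.mem_bot] at h2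
    exact hy1 (congrArg Subtype.val h2)
  · intro s hs
    have h2 : (⟨s, hs⟩ : S₁) ∈ N := by rw [h1]; trivial
    exact h2

end Lift

section Sp

variable {T G : Type*} [Group T] [Finite T] [Group G] {F : Type*} [Field F] [Fintype F] {V : Type*} [AddCommGroup V]
  [Module F V] [FiniteDimensional F V]
variable {r n : ℕ} {π : G →* T} {ρ : G →* Module.End F V} {A S₁ S₂ : Subgroup T} {B : LinearMap.BilinForm F V}

omit [Fintype F] [FiniteDimensional F V] in
theorem frm_alt (hA : B.IsAlt) : Frm (RingHom.id F) (-1) (fun u v => B u v) where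
  add_left u v w := by simp
  smul_left a u v := by simp
  herm u v := by
    have := hA.neg_eq u v
    rw [RingHom.id_apply, neg_one_mul]
    exact this.symm
  sigma_sq _ := rfl
  eps_ne := neg_ne_zero.2 one_ne_zero

omit [Fintype F] in
theorem even_of_nd (hA : B.IsAlt) {U : Submodule F V} (h : Nd (fun u v => B u v) U) : Even (finrank F U) := by
  obtain ⟨m, b, -⟩ := H953.exists_symplectic_basis (B.restrict U) (fun u => hA u) (fun u hu => by
    by_contra hne
    obtain ⟨v, hv, huv⟩ := h u u.2 (fun h1 => hne (Subtype.ext h1))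
    exact huv (hu ⟨v, hv⟩))
  have h1 := finrank_eq_card_basis b
  rw [Fintype.card_sum, Fintype.card_fin] at h1
  exact ⟨m, h1⟩

/-- an involution is `-1` on its commutator space -/
theorem neg_of_mem_cm {a : Module.End F V} (ha : a * a = 1) {v : V} (hv : v ∈ cm a) : a v = -v := by
  obtain ⟨w, rfl⟩ := mem_cm.1 hv
  rw [map_sub, ← Module.End.mul_apply, ha, Module.End.one_apply, neg_sub]

theorem Env.no_sp4 (h : Env r n π ρ) (hn : n = 4) (hV : finrank F V = 2 * n) (h2 : (2 : F) ≠ 0)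
    (hS : TwoFac A S₁ S₂) (hB : B.Nondegenerate) (hA : B.IsAlt) (hiso : ∀ g u v, B (ρ g u) (ρ g v) = B u v)
    (hpm : ∀ k, π k = 1 → ρ k = 1 ∨ ρ k = -1) {x y : G} (hx : π x ∈ S₂) (hxr : x ^ r = 1)
    (hdx : finrank F (cm (ρ x)) = n) (hy : π y ∈ S₁) (hyr : y ^ r = 1) (hy1 : y ≠ 1) : False := by
  have hF := frm_alt hA
  have hnd : Nd (fun u v => B u v) ⊤ := fun u _ hu => by
    by_contra hcon
    push Not at hcon
    exact hu (hB.1 u fun v => hcon v trivial)
  have h20 : ((2 : ℕ) : F) ≠ 0 := by exact_mod_cast h2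
  obtain ⟨hxy, -, -⟩ := h.small hS hx hxr hdx hy hyr hy1
  have hsum := finrank_fx_add_cm h.rd.ne0 (h.rpow hxr)
  have hZinv : ∀ g, π g ∈ S₁ → Inv (ρ g) (cm (ρ x)) := fun g hg =>
    inv_cm_of_commute (h.comm' hxr (hS.comm _ hg _ hx).symm).symm
  have hUinv : ∀ g, π g ∈ S₁ → Inv (ρ g) (fx (ρ x)) := fun g hg =>
    inv_fx_of_commute (h.comm' hxr (hS.comm _ hg _ hx).symm).symm
  have hlift := lift_triv π h.surj ρ hS.simple₁ hy (h.pne hyr hy1) hZinv hxy
  -- a nonzero vector of `cm (ρ x)`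
  obtain ⟨z, hz, hz0⟩ : ∃ z ∈ cm (ρ x), z ≠ 0 := (Submodule.ne_bot_iff _).1 (fun h1 => by
    rw [h1, finrank_bot] at hdx; omega)
  have hker1 : ∀ k, π k = 1 → cm (ρ x) ≤ fx (ρ k) → k = 1 := by
    intro k hk hkZ
    rcases hpm k hk with h1 | h1
    · exact h.inj (by rw [h1, map_one])
    · exfalso
      have h3 := mem_fx.1 (hkZ hz)
      rw [h1, LinearMap.neg_apply, Module.End.one_apply] at h3
      have h4 : (2 : F) • z = 0 := by
        rw [two_smul]
        nth_rewrite 1 [← h3]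
        exact neg_add_cancel z
      exact hz0 ((smul_eq_zero.1 h4).resolve_left h2)
  have := hS.simple₁
  obtain ⟨a₀, b₀, ha1, hb1, hab, hane, hbne, habne⟩ := exists_four (S := S₁) (fun h4 => hS.na₁ fun a ha b hb =>
    congrArg Subtype.val (h4 ⟨a, ha⟩ ⟨b, hb⟩))
  obtain ⟨a, haa, haZ⟩ := hlift a₀ a₀.2
  obtain ⟨b, hbb, hbZ⟩ := hlift b₀ b₀.2
  have hmulZ : ∀ {u v : G}, cm (ρ x) ≤ fx (ρ u) → cm (ρ x) ≤ fx (ρ v) → cm (ρ x) ≤ fx (ρ (u * v)) := fun hu hv w hw =>
    mem_fx_mul (hu hw) (hv hw)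
  have hinvZ : ∀ {u : G}, cm (ρ x) ≤ fx (ρ u) → cm (ρ x) ≤ fx (ρ u⁻¹) := fun hu w hw => mem_fx_inv (hu hw)
  have haa1 : a * a = 1 := hker1 _ (by rw [map_mul, haa, ← Subgroup.coe_mul, ha1]; rfl) (hmulZ haZ haZ)
  have hbb1 : b * b = 1 := hker1 _ (by rw [map_mul, hbb, ← Subgroup.coe_mul, hb1]; rfl) (hmulZ hbZ hbZ)
  have hab1 : a * b = b * a := by
    have h1 : a * b * (b * a)⁻¹ = 1 := hker1 _ (by
      rw [map_mul, map_inv, map_mul, map_mul, haa, hbb, ← Subgroup.coe_mul, ← Subgroup.coe_mul, hab,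
        mul_inv_cancel]) (hmulZ (hmulZ haZ hbZ) (hinvZ (hmulZ hbZ haZ)))
    exact mul_inv_eq_one.1 h1
  -- an involution of `S₁` has a two-dimensional commutator space
  have key : ∀ c : G, π c ∈ S₁ → π c ≠ 1 → c * c = 1 → cm (ρ x) ≤ fx (ρ c) → finrank F (cm (ρ c)) = 2 := by
    intro c hcS hc1 hcc hcZ
    have hρ2 : ρ c ^ 2 = 1 := by rw [← map_pow, pow_two, hcc, map_one]
    have hρ : ρ c * ρ c = 1 := by rw [← pow_two, hρ2]
    have hndc : Nd (fun u v => B u v) (cm (ρ c)) := by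
      have h1 := Isom.nd_inf_cm hF (show Isom (fun u v => B u v) (ρ c) from hiso c) h20 hρ2 inv_top hnd
      rwa [top_inf_eq] at h1
    obtain ⟨d, hd⟩ := even_of_nd hA hndc
    -- `cm (ρ c) ≤ fx (ρ x)`
    have hle : cm (ρ c) ≤ fx (ρ x) :=
      cm_le_fx h.rd.ne0 (h.rpow hxr) (h.comm' hxr (hS.comm _ hcS _ hx).symm).symm hcZ
    have hle2 := Submodule.finrank_mono hle
    have hne0 : finrank F (cm (ρ c)) ≠ 0 := by
      intro h1
      have h3 : ρ c - 1 = 0 := LinearMap.range_eq_bot.1 (Submodule.finrank_eq_zero.1 h1)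
      have h4 : c = 1 := h.inj (by rw [map_one]; exact sub_eq_zero.1 h3)
      exact hc1 (by rw [h4, map_one])
    have hne4 : finrank F (cm (ρ c)) ≠ 4 := by
      intro h4
      have heq : cm (ρ c) = fx (ρ x) := Submodule.eq_of_le_of_finrank_le hle (by omega)
      -- `π c` is central in `S₁`
      have hcen : (⟨π c, hcS⟩ : S₁) ∈ Subgroup.center S₁ := by
        rw [Subgroup.mem_center_iff]
        intro s
        obtain ⟨g, hg, hgZ⟩ := hlift s s.2
        apply Subtype.ext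
        show (s : T) * π c = π c * s
        rw [← hg, ← map_mul, ← map_mul]
        congr 1
        apply h.inj
        apply LinearMap.ext
        intro v
        obtain ⟨u, hu, w, hw, rfl⟩ := Submodule.mem_sup.1 (show v ∈ fx (ρ x) ⊔ cm (ρ x) by
          rw [(isCompl_fx_cm h.rd.ne0 (h.rpow hxr)).sup_eq_top]; trivial)
        have hgu : ρ g u ∈ fx (ρ x) := hUinv g (by rw [hg]; exact s.2) u hu
        rw [rho_mul, rho_mul, map_add, map_add, map_add, map_add, mem_fx.1 (hcZ hw), mem_fx.1 (hgZ hw),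
          mem_fx.1 (hcZ hw), neg_of_mem_cm hρ (by rw [heq]; exact hu), neg_of_mem_cm hρ (by rw [heq]; exact hgu),
          map_neg]
      have hbot : Subgroup.center S₁ = ⊥ := by
        rcases (inferInstance : (Subgroup.center S₁).Normal).eq_bot_or_eq_top with h5 | h5
        · exact h5
        · exfalso
          apply hS.na₁
          intro a ha b hb
          have h6 : (⟨b, hb⟩ : S₁) ∈ Subgroup.center S₁ := by rw [h5]; trivial
          exact congrArg Subtype.val (Subgroup.mem_center_iff.1 h6 ⟨a, ha⟩)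
      rw [hbot, Subgroup.mem_bot] at hcen
      exact hc1 (congrArg Subtype.val hcen)
    omega
  have hπa : π a ∈ S₁ := by rw [haa]; exact a₀.2
  have hπb : π b ∈ S₁ := by rw [hbb]; exact b₀.2
  have hda := key a hπa (by rw [haa]; exact fun h1 => hane (Subtype.ext h1)) haa1 haZ
  have hdb := key b hπb (by rw [hbb]; exact fun h1 => hbne (Subtype.ext h1)) hbb1 hbZ
  have hab2 : a * b * (a * b) = 1 := by
    calc a * b * (a * b) = a * (b * a) * b := by group
      _ = a * (a * b) * b := by rw [hab1]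
      _ = (a * a) * (b * b) := by group
      _ = 1 := by rw [haa1, hbb1, one_mul]
  have hdab := key (a * b) (by rw [map_mul]; exact S₁.mul_mem hπa hπb) (by
    intro h1
    rw [map_mul, haa, hbb] at h1
    apply habne
    apply Subtype.ext
    have h3 : (b₀ : T) * b₀ = 1 := congrArg Subtype.val hb1
    have h4 : (a₀ : T) * b₀ = b₀ * b₀ := by rw [h1, h3]
    exact mul_right_cancel h4) hab2 (hmulZ haZ hbZ)
  -- the intersection
  have hρa2 : ρ a ^ 2 = 1 := by rw [← map_pow, pow_two, haa1, map_one]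
  have hρb2 : ρ b ^ 2 = 1 := by rw [← map_pow, pow_two, hbb1, map_one]
  have hρa : ρ a * ρ a = 1 := by rw [← pow_two, hρa2]
  have hρb : ρ b * ρ b = 1 := by rw [← pow_two, hρb2]
  have hρab : ρ (a * b) * ρ (a * b) = 1 := by rw [← map_mul, hab2, map_one]
  have hcomm : Commute (ρ a) (ρ b) := by
    show ρ a * ρ b = ρ b * ρ a
    rw [← map_mul, hab1, map_mul]
  have hnda : Nd (fun u v => B u v) (cm (ρ a)) := by
    have h1 := Isom.nd_inf_cm hF (show Isom (fun u v => B u v) (ρ a) from hiso a) h20 hρa2 inv_top hnd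
    rwa [top_inf_eq] at h1
  have hia : Inv (ρ b) (cm (ρ a)) := inv_cm_of_commute hcomm.symm
  have hib : Inv (ρ a) (cm (ρ b)) := inv_cm_of_commute hcomm
  have hndab : Nd (fun u v => B u v) (cm (ρ a) ⊓ cm (ρ b)) :=
    Isom.nd_inf_cm hF (show Isom (fun u v => B u v) (ρ b) from hiso b) h20 hρb2 hia hnda
  obtain ⟨d, hd⟩ := even_of_nd hA hndab
  have e1 := finrank_inf_add h20 hρb2 hia
  have e2 := finrank_inf_add h20 hρa2 hib
  -- `cm (ρ (a b)) = (cm a ⊓ fx b) ⊕ (cm b ⊓ fx a)`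
  have hle : cm (ρ (a * b)) ≤ (cm (ρ a) ⊓ fx (ρ b)) ⊔ (cm (ρ b) ⊓ fx (ρ a)) := by
    intro v hv
    -- decompose `v` for `b`
    have hvb : Inv (ρ b) (cm (ρ (a * b))) := inv_cm_of_commute (by
      rw [map_mul]; exact (hcomm.symm.mul_right (Commute.refl _)))
    have h3 := inf_fx_sup_inf_cm h20 hρb2 hvb
    rw [← h3] at hv
    obtain ⟨u, hu, w, hw, rfl⟩ := Submodule.mem_sup.1 hv
    refine Submodule.add_mem_sup ⟨?_, hu.2⟩ ⟨hw.2, ?_⟩
    · -- `a b u = - u`, `b u = u`, so `a u = - u`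
      have h4 := neg_of_mem_cm hρab hu.1
      rw [rho_mul, mem_fx.1 hu.2] at h4
      refine mem_cm.2 ⟨(-(2 : F)⁻¹) • u, ?_⟩
      rw [map_smul, h4, ← smul_sub, ← neg_add', smul_neg, neg_smul, neg_neg, ← two_smul F u, smul_smul,
        inv_mul_cancel₀ h2, one_smul]
    · have h4 := neg_of_mem_cm hρab hw.1
      rw [rho_mul, neg_of_mem_cm hρb hw.2, map_neg, neg_inj] at h4
      exact mem_fx.2 h4
  have h5 := Submodule.finrank_mono hle
  have h6 : (cm (ρ a) ⊓ fx (ρ b)) ⊓ (cm (ρ b) ⊓ fx (ρ a)) = ⊥ := by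
    rw [eq_bot_iff, ← (isCompl_fx_cm h20 hρa2).inf_eq_bot]
    exact fun v hv => ⟨hv.2.2, hv.1.1⟩
  have h7 := finrank_sup_of_disj h6
  have h8 : (cm (ρ a) ⊓ fx (ρ b)) ⊔ (cm (ρ b) ⊓ fx (ρ a)) ≤ cm (ρ (a * b)) := by
    refine sup_le ?_ ?_
    · rintro v ⟨h1, h3⟩
      rw [mem_cm]
      refine ⟨(-(2 : F)⁻¹) • v, ?_⟩
      rw [map_smul, rho_mul, mem_fx.1 h3, neg_of_mem_cm hρa h1, ← smul_sub, ← neg_add', smul_neg, neg_smul, neg_neg,
        ← two_smul F v, smul_smul, inv_mul_cancel₀ h2, one_smul]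
    · rintro v ⟨h1, h3⟩
      rw [mem_cm]
      refine ⟨(-(2 : F)⁻¹) • v, ?_⟩
      rw [map_smul, rho_mul, neg_of_mem_cm hρb h1, map_neg, mem_fx.1 h3, ← smul_sub, ← neg_add', smul_neg, neg_smul,
        neg_neg, ← two_smul F v, smul_smul, inv_mul_cancel₀ h2, one_smul]
  have h9 := Submodule.finrank_mono h8
  rw [inf_comm (cm (ρ b)) (cm (ρ a))] at e2
  omega

end Sp

end Cfsg.Agent.H899.Pt
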