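import Cfsg.Agent.H884.CgLin

/-!
# Commuting operators of prime order `r` on a space of dimension at most `2 n + 1`, `n = ord_r(q)` (helper899, S3679)

* `RD F r n` : `r` odd prime, different from the characteristic, `ord_r(|F|) = n ≥ 1`;
* `RD.fx_or` : on an invariant subspace of dimension `n` an operator of order `r` is trivial or fixed point free;
* `RD.exists_triv` : `x`, `y` commuting, `Z` of dimension `n`, `y` fixed point free on `Z`: some `x y ^ i` is trivial on `Z`;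
* `RD.exists_big` : `x`, `y` generate `C_r × C_r`: some `x ^ i y ^ j` has `dim [V, x ^ i y ^ j] ≥ 2 n`;
* `lemC` : **Lemma C** (`S₁` simple non-abelian, `y ∈ S₁` commutes with `S₁` on `Z` ⟹ `y` trivial on `Z`);
* `gp` : `T = A M`, `M` without `C_r × C_r`: the `T`-conjugates in `A` of a subgroup of order `r` of `A ∩ M` are
  `A`-conjugates.
-/

set_option autoImplicit false

namespace Cfsg.Agent.H899.Pt

open Module Cfsg.Agent.H951 Cfsg.Agent.H884.Cg

/-- `r` is an odd prime, not the characteristic, `n = ord_r(|F|)` -/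
structure RD (F : Type*) [Field F] [Fintype F] (r n : ℕ) : Prop where
  prime : r.Prime
  two_lt : 2 < r
  ne0 : (r : F) ≠ 0
  ord : orderOf (Fintype.card F : ZMod r) = n

section Lin

variable {F : Type*} [Field F] [Fintype F] {V : Type*} [AddCommGroup V] [Module F V] [FiniteDimensional F V]
  {x y : Module.End F V} {Z : Submodule F V} {r n : ℕ}

theorem RD.dvd (h : RD F r n) (hy : y ^ r = 1) (hZ : Inv y Z) (hf : Z ⊓ fx y = ⊥) : n ∣ finrank F Z := by
  have := Fact.mk h.prime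
  rw [← h.ord]
  exact ord_dvd_finrank hy hZ hf

theorem RD.pos (h : RD F r n) : 0 < n := by
  have := Fact.mk h.prime
  rw [← h.ord]
  exact ord_pos h.ne0

theorem RD.dvd_inf_cm (h : RD F r n) (hy : y ^ r = 1) (hZ : Inv y Z) : n ∣ finrank F ↥(Z ⊓ cm y) :=
  h.dvd hy (hZ.inf inv_cm) (inf_fx_of_le_cm h.ne0 hy inf_le_right)

theorem RD.dvd_cm (h : RD F r n) (hy : y ^ r = 1) : n ∣ finrank F (cm y) :=
  h.dvd hy inv_cm (inf_fx_of_le_cm h.ne0 hy le_rfl)

theorem RD.le_finrank (h : RD F r n) (hy : y ^ r = 1) (hZ : Inv y Z) (hf : Z ⊓ fx y = ⊥) (h0 : Z ≠ ⊥) :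
    n ≤ finrank F Z :=
  Nat.le_of_dvd (Nat.pos_of_ne_zero fun h1 => h0 (Submodule.finrank_eq_zero.1 h1)) (h.dvd hy hZ hf)

omit [Fintype F] [FiniteDimensional F V] in
theorem cm_ne_bot (hx1 : x ≠ 1) : cm x ≠ ⊥ := fun h => hx1 (sub_eq_zero.1 (LinearMap.range_eq_bot.1 h))

theorem RD.le_cm (h : RD F r n) (hy : y ^ r = 1) (hy1 : y ≠ 1) : n ≤ finrank F (cm y) :=
  h.le_finrank hy inv_cm (inf_fx_of_le_cm h.ne0 hy le_rfl) (cm_ne_bot hy1)

/-- on an invariant subspace of dimension `n`: trivial or fixed point free -/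
theorem RD.fx_or (h : RD F r n) (hy : y ^ r = 1) (hZ : Inv y Z) (hd : finrank F Z = n) :
    Z ≤ fx y ∨ Z ⊓ fx y = ⊥ := by
  have h1 := finrank_inf_add h.ne0 hy hZ
  have h2 := h.dvd_inf_cm hy hZ
  rcases Nat.eq_zero_or_pos (finrank F ↥(Z ⊓ cm y)) with h3 | h3
  · left
    have h4 : Z ⊓ fx y = Z := Submodule.eq_of_le_of_finrank_le inf_le_left (by omega)
    rw [← h4]
    exact inf_le_right
  · right
    have h4 := Nat.le_of_dvd h3 h2
    exact Submodule.finrank_eq_zero.1 (by omega)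

theorem RD.exists_triv (h : RD F r n) (hx : x ^ r = 1) (hy : y ^ r = 1) (hxy : Commute x y) (hZx : Inv x Z)
    (hZy : Inv y Z) (hd : finrank F Z = n) (hf : Z ⊓ fx y = ⊥) : ∃ i < r, Z ≤ fx (x * y ^ i) := by
  have h0 : Z ≠ ⊥ := by
    rintro rfl
    rw [finrank_bot] at hd
    exact h.pos.ne hd
  obtain ⟨i, hi, hne⟩ := exists_fixed h.prime h.ne0 hx hy hxy hZx hZy h0 hf
  refine ⟨i, hi, ?_⟩
  have hc : Commute x (y ^ i) := hxy.pow_right i
  have hp : (x * y ^ i) ^ r = 1 := by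
    rw [hc.mul_pow, hx, ← pow_mul, mul_comm i r, pow_mul, hy, one_pow, one_mul]
  exact (h.fx_or hp (Inv.mul hZx (hZy.pow i)) hd).resolve_right hne

omit [Fintype F] [FiniteDimensional F V] in
theorem pow_mul_pow_r (hx : x ^ r = 1) (hy : y ^ r = 1) (hxy : Commute x y) (i j : ℕ) : (x ^ i * y ^ j) ^ r = 1 := by
  rw [(hxy.pow_pow i j).mul_pow, ← pow_mul, ← pow_mul, mul_comm i, mul_comm j, pow_mul, pow_mul, hx, hy, one_pow,
    one_pow, one_mul]

omit [Fintype F] [FiniteDimensional F V] in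
/-- if `w` is trivial on `cm y` and commutes with `y` (order `r`) then `cm w ≤ fx y` and
`cm w ⊔ cm y ≤ cm (w * y)` -/
theorem cm_le_fx (h0 : (r : F) ≠ 0) (hy : y ^ r = 1) {w : Module.End F V} (hwy : Commute w y)
    (hw : cm y ≤ fx w) : cm w ≤ fx y := by
  intro v hv
  obtain ⟨u, rfl⟩ := mem_cm.1 hv
  have h1 : u ∈ fx y ⊔ cm y := by rw [(isCompl_fx_cm h0 hy).sup_eq_top]; trivial
  obtain ⟨a, ha, b, hb, rfl⟩ := Submodule.mem_sup.1 h1
  rw [map_add, mem_fx.1 (hw hb)]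
  have h2 : w a + b - (a + b) = w a - a := by abel
  rw [h2]
  exact (fx y).sub_mem (inv_fx_of_commute hwy a ha) ha

omit [Fintype F] [FiniteDimensional F V] in
theorem cm_sup_le (h0 : (r : F) ≠ 0) (hy : y ^ r = 1) {w : Module.End F V} (hwr : w ^ r = 1) (hwy : Commute w y)
    (hw : cm y ≤ fx w) : cm w ⊔ cm y ≤ cm (w * y) := by
  have hwf := cm_le_fx h0 hy hwy hw
  have hp : (w * y) ^ r = 1 := by rw [hwy.mul_pow, hwr, hy, one_mul]
  refine sup_le ?_ ?_
  · refine le_cm_of_inf_fx h0 hp ?_ ?_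
    · exact Inv.mul inv_cm (inv_cm_of_commute hwy.symm)
    · rw [eq_bot_iff, ← (isCompl_fx_cm h0 hwr).inf_eq_bot]
      rintro v ⟨h1, h2⟩
      refine ⟨mem_fx.2 ?_, h1⟩
      have h3 := mem_fx.1 h2
      rwa [Module.End.mul_apply, mem_fx.1 (hwf h1)] at h3
  · refine le_cm_of_inf_fx h0 hp ?_ ?_
    · exact Inv.mul (inv_cm_of_commute hwy) inv_cm
    · rw [eq_bot_iff, ← (isCompl_fx_cm h0 hy).inf_eq_bot]
      rintro v ⟨h1, h2⟩
      refine ⟨mem_fx.2 ?_, h1⟩
      have h3 := mem_fx.1 h2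
      rwa [Module.End.mul_apply, mem_fx.1 (hw (inv_cm v h1))] at h3

/-- `C_r × C_r` contains an element with `dim [V, z] ≥ 2 n` -/
theorem RD.exists_big (h : RD F r n) (hx : x ^ r = 1) (hy : y ^ r = 1) (hxy : Commute x y) (hy1 : y ≠ 1)
    (hn : ∀ i : ℕ, x * y ^ i ≠ 1) : ∃ i j : ℕ, 2 * n ≤ finrank F (cm (x ^ i * y ^ j)) := by
  have h1 := h.dvd_cm hy
  have h2 := h.le_cm hy hy1
  by_cases h3 : finrank F (cm y) = n
  · obtain ⟨i, -, hi⟩ := h.exists_triv hx hy hxy (inv_cm_of_commute hxy) inv_cm h3 (inf_fx_of_le_cm h.ne0 hy le_rfl)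
    have hc : Commute x (y ^ i) := hxy.pow_right i
    have hwr : (x * y ^ i) ^ r = 1 := by
      have := pow_mul_pow_r hx hy hxy 1 i
      rwa [pow_one] at this
    have hwy : Commute (x * y ^ i) y := hxy.mul_left ((Commute.refl y).pow_left i)
    have h4 := cm_sup_le h.ne0 hy hwr hwy hi
    have h5 := h.le_cm hwr (hn i)
    have h6 : cm (x * y ^ i) ⊓ cm y = ⊥ := by
      rw [eq_bot_iff, ← (isCompl_fx_cm h.ne0 hwr).inf_eq_bot]
      exact fun v hv => ⟨hi hv.2, hv.1⟩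
    have h7 := finrank_sup_of_disj h6
    have h8 := Submodule.finrank_mono h4
    refine ⟨1, i + 1, ?_⟩
    rw [pow_one, pow_succ, ← mul_assoc]
    omega
  · obtain ⟨k, hk⟩ := h1
    refine ⟨0, 1, ?_⟩
    rw [pow_zero, pow_one, one_mul, hk, mul_comm]
    have : 2 ≤ k := by
      by_contra hcon
      have hk2 : k = 0 ∨ k = 1 := by omega
      rcases hk2 with rfl | rfl
      · rw [mul_zero] at hk
        have := h.pos
        omega
      · exact h3 (by rw [hk, mul_one])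
    exact Nat.mul_le_mul_left n this

end Lin

section Grp

open Subgroup

variable {T G : Type*} [Group T] [Group G]

/-- **Lemma C** -/
theorem lemC {F : Type*} [Field F] {V : Type*} [AddCommGroup V] [Module F V] {r : ℕ} (hr2 : Odd r)
    (π : G →* T) (hπ : Function.Surjective π) (hker : ∀ k, π k = 1 → k ^ 2 = 1 ∧ ∀ g, k * g = g * k)
    (ρ : G →* Module.End F V) {S₁ : Subgroup T} (hS : IsSimpleGroup S₁) (hna : ¬ ∀ a ∈ S₁, ∀ b ∈ S₁, a * b = b * a)
    {y : G} (hyS : π y ∈ S₁) (hyr : y ^ r = 1) {Z : Submodule F V}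
    (hZ : ∀ g, π g ∈ S₁ → Inv (ρ g) Z) (hc : ∀ g, π g ∈ S₁ → ∀ v ∈ Z, ρ (y * g) v = ρ (g * y) v) :
    Z ≤ fx (ρ y) := by
  have hmul : ∀ (g h : G) (v : V), ρ (g * h) v = ρ g (ρ h v) := fun g h v => by rw [map_mul]; rfl
  have hinvv : ∀ (g : G) (v : V), ρ g (ρ g⁻¹ v) = v := fun g v => by
    rw [← hmul, mul_inv_cancel, map_one]; rfl
  have hinvv' : ∀ (g : G) (v : V), ρ g⁻¹ (ρ g v) = v := fun g v => by
    rw [← hmul, inv_mul_cancel, map_one]; rfl
  have hfinv : ∀ g : G, Z ≤ fx (ρ g) → Z ≤ fx (ρ g⁻¹) := fun g hg v hv => by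
    rw [mem_fx]
    have h1 := mem_fx.1 (hg hv)
    conv_lhs => rw [← h1]
    exact hinvv' g v
  -- the elements of `S₁` with a lift trivial on `Z`
  let N : Subgroup S₁ :=
    { carrier := {s | ∃ g, π g = s ∧ Z ≤ fx (ρ g)}
      mul_mem' := by
        rintro s t ⟨g, hg, hg2⟩ ⟨h, hh, hh2⟩
        refine ⟨g * h, by rw [map_mul, hg, hh]; rfl, fun v hv => ?_⟩
        rw [mem_fx, hmul, mem_fx.1 (hh2 hv), mem_fx.1 (hg2 hv)]
      one_mem' := ⟨1, by rw [map_one]; rfl, fun v _ => by rw [mem_fx, map_one]; rfl⟩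
      inv_mem' := by
        rintro s ⟨g, hg, hg2⟩
        exact ⟨g⁻¹, by rw [map_inv, hg]; rfl, hfinv g hg2⟩ }
  have hN : N.Normal := by
    refine ⟨fun s hs t => ?_⟩
    obtain ⟨g, hg, hg2⟩ := hs
    obtain ⟨h, hh⟩ := hπ (t : T)
    refine ⟨h * g * h⁻¹, by rw [map_mul, map_mul, map_inv, hh, hg]; rfl, fun v hv => ?_⟩
    have h1 : ρ h⁻¹ v ∈ Z := hZ h⁻¹ (by rw [map_inv, hh]; exact inv_mem t.2) v hv
    rw [mem_fx, hmul, hmul, mem_fx.1 (hg2 h1), hinvv]
  rcases hN.eq_bot_or_eq_top with h1 | h1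
  · -- `π y` is central in `S₁`
    have h2 : ∀ s : S₁, s * ⟨π y, hyS⟩ = ⟨π y, hyS⟩ * s := by
      intro s
      obtain ⟨g, hg⟩ := hπ (s : T)
      have hgS : π g ∈ S₁ := by rw [hg]; exact s.2
      have h3 : (⟨π y, hyS⟩ * s * (⟨π y, hyS⟩ : S₁)⁻¹ * s⁻¹ : S₁) ∈ N := by
        refine ⟨y * g * y⁻¹ * g⁻¹, by rw [map_mul, map_mul, map_mul, map_inv, map_inv, hg]; rfl, fun v hv => ?_⟩
        have h4 : ρ g⁻¹ v ∈ Z := hZ g⁻¹ (by rw [map_inv]; exact inv_mem hgS) v hv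
        have h5 : ρ y⁻¹ (ρ g⁻¹ v) ∈ Z := hZ y⁻¹ (by rw [map_inv]; exact inv_mem hyS) _ h4
        rw [mem_fx, hmul, hmul, hc g hgS _ h5, hmul, hinvv, hinvv]
      rw [h1, Subgroup.mem_bot] at h3
      rw [mul_inv_eq_one, mul_inv_eq_iff_eq_mul] at h3
      exact h3.symm
    have h3 : (⟨π y, hyS⟩ : S₁) ∈ center S₁ := Subgroup.mem_center_iff.2 h2
    have h4 : center S₁ = ⊥ := by
      rcases (inferInstance : (center S₁).Normal).eq_bot_or_eq_top with h5 | h5
      · exact h5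
      · exfalso
        apply hna
        intro a ha b hb
        have h6 : (⟨b, hb⟩ : S₁) ∈ center S₁ := by rw [h5]; trivial
        exact congrArg Subtype.val (Subgroup.mem_center_iff.1 h6 ⟨a, ha⟩)
    rw [h4, Subgroup.mem_bot] at h3
    have h5 : π y = 1 := congrArg Subtype.val h3
    have h6 := (hker y h5).1
    obtain ⟨k, hk⟩ := hr2
    have h7 : y = 1 := by
      rw [hk, pow_succ, pow_mul, h6, one_pow, one_mul] at hyr
      exact hyr
    intro v _
    rw [mem_fx, h7, map_one]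
    rfl
  · have h2 : (⟨π y, hyS⟩ : S₁) ∈ N := by rw [h1]; trivial
    obtain ⟨g, hg, hg2⟩ := h2
    have hg' : π g = π y := hg
    have h3 : π (g⁻¹ * y) = 1 := by rw [map_mul, map_inv, hg', inv_mul_cancel]
    obtain ⟨h4, h5⟩ := hker _ h3
    have h6 : y = g * (g⁻¹ * y) := by group
    have h7 : y ^ 2 = g ^ 2 := by
      have hc2 : Commute g (g⁻¹ * y) := (h5 g).symm
      conv_lhs => rw [h6, hc2.mul_pow, h4, mul_one]
    obtain ⟨k, hk⟩ := hr2
    have h8 : y = (y ^ 2) ^ (k + 1) := by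
      rw [← pow_mul, show 2 * (k + 1) = r + 1 by omega, pow_succ, hyr, one_mul]
    intro v hv
    rw [mem_fx, h8, h7, ← pow_mul, map_pow]
    exact pow_fx (mem_fx.1 (hg2 hv)) _

end Grp

end Cfsg.Agent.H899.Pt
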