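import Cfsg.Agent.H899.Pt.Big
import Cfsg.Agent.H899.Pt.Burn

/-!
# Factorizations by the stabiliser of a nonsingular point, II: odd dimension (helper899, S3679)

* `Cfg.lift` : elements of order `r` lift to elements of order `r`;
* `Cfg.inv_of` : a subspace invariant under everything which commutes with `x` or with `y` is `A`-invariant;
* `Cfg.false_odd` : `dim V = 2 n + 1`, `q` odd: contradiction.
-/

set_option autoImplicit false
set_option linter.unusedSectionVars false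
set_option linter.unusedVariables false

namespace Cfsg.Agent.H899.Pt

open Module QuadraticMap Cfsg.Agent.H951 Cfsg.Agent.H884.Cg Cfsg.Agent.H955 Cfsg.Agent.LieClassical.OrthCore
open Cfsg.Agent.H954.TSing

variable {T G : Type*} [Group T] [Group G] {F : Type*} [Field F] [Fintype F] {V : Type*} [AddCommGroup V] [Module F V]
  [FiniteDimensional F V]
variable {Q : QuadraticForm F V} {c : F} {r n : ℕ} {π : G →* T} {ρ : G →* Module.End F V} {A S₁ S₂ : Subgroup T}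

theorem Cfg.lift (h : Cfg Q c r n π ρ A) {t : T} (ht : t ^ r = 1) : ∃ g, π g = t ∧ g ^ r = 1 := by
  obtain ⟨g, rfl⟩ := h.surj t
  obtain ⟨j, hj⟩ := h.odd
  refine ⟨g ^ (r + 1), by rw [map_pow, pow_succ, ht, one_mul], ?_⟩
  have h1 := (h.ker (g ^ r) (by rw [map_pow, ht])).1
  rw [← pow_mul, mul_comm, pow_mul, show r + 1 = 2 * (j + 1) by omega, pow_mul, h1, one_pow]

theorem Cfg.lift_ne (h : Cfg Q c r n π ρ A) {t : T} (ht : orderOf t = r) :
    ∃ g, π g = t ∧ g ^ r = 1 ∧ g ≠ 1 := by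
  obtain ⟨g, h1, h2⟩ := h.lift (t := t) (by rw [← ht, pow_orderOf_eq_one])
  refine ⟨g, h1, h2, ?_⟩
  rintro rfl
  rw [map_one] at h1
  rw [← h1, orderOf_one] at ht
  exact h.rd.prime.one_lt.ne ht

theorem Cfg.injE (h : Cfg Q c r n π ρ A) (g : G) : Function.Injective (ρ g) := by
  intro u v huv
  have h1 := congrArg (ρ g⁻¹) huv
  rwa [← Module.End.mul_apply, ← Module.End.mul_apply, ← map_mul, inv_mul_cancel, map_one] at h1

/-- everything in `A` is a product of an element commuting with `x ∈ S₂` and an element commuting with `y ∈ S₁` -/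
theorem Cfg.exists_dec (h : Cfg Q c r n π ρ A) (hS : TwoFac A S₁ S₂) {x y : G} (hx : π x ∈ S₂) (hxr : x ^ r = 1)
    (hy : π y ∈ S₁) (hyr : y ^ r = 1) {a : G} (ha : π a ∈ A) :
    ∃ s t : G, a = s * t ∧ x * s = s * x ∧ y * t = t * y := by
  obtain ⟨s, hs, a', ha', hsa, hc⟩ := hS.dec₁ _ ha
  obtain ⟨s, rfl⟩ := h.surj s
  refine ⟨s, s⁻¹ * a, by group, h.comm hxr (hS.comm _ hs _ hx).symm, h.comm hyr ?_⟩
  have h1 : π (s⁻¹ * a) = a' := by rw [map_mul, map_inv, hsa]; group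
  rw [h1]
  exact hc _ hy

theorem Cfg.two_n (h : Cfg Q c r n π ρ A) (hS : TwoFac A S₁ S₂) (hdim : finrank F V ≤ 2 * n + 1) {x y : G}
    (hx : π x ∈ S₂) (hxr : x ^ r = 1) (hx1 : x ≠ 1) (hy : π y ∈ S₁) (hyr : y ^ r = 1) (hy1 : y ≠ 1) :
    finrank F (cm (ρ x)) = 2 * n := by
  have h1 := h.big₂ hS hx hxr hx1 hy hyr hy1
  obtain ⟨k, hk⟩ := h.rd.dvd_cm (h.rpow hxr)
  have h2 : finrank F (cm (ρ x)) ≤ finrank F V := Submodule.finrank_le _
  have hn3 := h.n3
  have h3 : k < 3 := by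
    by_contra hcon
    have := Nat.mul_le_mul_left n (show 3 ≤ k by omega)
    omega
  have h4 : 2 ≤ k := by
    by_contra hcon
    have := Nat.mul_le_mul_left n (show k ≤ 1 by omega)
    omega
  rw [hk, show k = 2 by omega, mul_comm]

/-- **odd dimension** -/
theorem Cfg.false_odd (h : Cfg Q c r n π ρ A) (h2 : (2 : F) ≠ 0) (hS : TwoFac A S₁ S₂)
    (hdim : finrank F V = 2 * n + 1) {x y : G}
    (hx : π x ∈ S₂) (hxr : x ^ r = 1) (hx1 : x ≠ 1) (hy : π y ∈ S₁) (hyr : y ^ r = 1) (hy1 : y ≠ 1) : False := by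
  have hn3 := h.n3
  have hdx := h.two_n hS hdim.le hx hxr hx1 hy hyr hy1
  have hdy := h.two_n hS.symm hdim.le hy hyr hy1 hx hxr hx1
  have hfx := finrank_fx_add_cm h.rd.ne0 (h.rpow hxr)
  have hfy := finrank_fx_add_cm h.rd.ne0 (h.rpow hyr)
  have hxy : Commute (ρ x) (ρ y) := h.comm' hxr (hS.comm _ hy _ hx).symm
  -- the two fixed points agree
  have hle : fx (ρ y) ≤ fx (ρ x) := by
    have hi : Inv (ρ x) (fx (ρ y)) := inv_fx_of_commute hxy
    have h1 := h.rd.dvd_inf_cm (h.rpow hxr) hi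
    have h3 : finrank F ↥(fx (ρ y) ⊓ cm (ρ x)) ≤ finrank F (fx (ρ y)) := Submodule.finrank_mono inf_le_left
    have h4 : finrank F ↥(fx (ρ y) ⊓ cm (ρ x)) = 0 := by
      by_contra hne
      have := Nat.le_of_dvd (Nat.pos_of_ne_zero hne) h1
      omega
    have h5 := inf_fx_sup_inf_cm h.rd.ne0 (h.rpow hxr) hi
    rw [Submodule.finrank_eq_zero.1 h4, sup_bot_eq] at h5
    rw [← h5]
    exact inf_le_right
  have heq : fx (ρ y) = fx (ρ x) := Submodule.eq_of_le_of_finrank_le hle (by omega)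
  -- `A` preserves it
  have hinv : ∀ a, π a ∈ A → Inv (ρ a) (fx (ρ x)) := by
    intro a ha
    obtain ⟨s, t, rfl, hs, ht⟩ := h.exists_dec hS hx hxr hy hyr ha
    rw [map_mul]
    refine Inv.mul (inv_fx_of_commute ?_) ?_
    · show ρ s * ρ x = ρ x * ρ s
      rw [← map_mul, ← hs, map_mul]
    · rw [← heq]
      refine inv_fx_of_commute ?_
      show ρ t * ρ y = ρ y * ρ t
      rw [← map_mul, ← ht, map_mul]
  -- a vector of the fixed point
  obtain ⟨u₀, hu₀, hu₀0⟩ : ∃ u ∈ fx (ρ x), u ≠ 0 := by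
    have h1 : fx (ρ x) ≠ ⊥ := by
      intro h1
      rw [h1, finrank_bot] at hfx
      omega
    exact (Submodule.ne_bot_iff _).1 h1
  have hspan : ∀ u ∈ fx (ρ x), ∃ t : F, t • u₀ = u := by
    intro u hu
    have h1 : finrank F (fx (ρ x)) = 1 := by omega
    obtain ⟨t, ht⟩ := (finrank_eq_one_iff_of_nonzero' (⟨u₀, hu₀⟩ : fx (ρ x))
      (fun h3 => hu₀0 (congrArg Subtype.val h3))).1 h1 ⟨u, hu⟩
    exact ⟨t, congrArg Subtype.val ht⟩
  have hu₀p : polar Q u₀ u₀ ≠ 0 := by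
    intro h1
    apply hu₀0
    refine (nondeg_res_iff.1 (nondeg_fx h.nondeg (h.iso x) h.rd.ne0 (h.rpow hxr))) u₀ hu₀ fun u hu => ?_
    obtain ⟨t, rfl⟩ := hspan u hu
    rw [polar_smul_right, h1, smul_zero]
  have horth : ∀ u ∈ fx (ρ x), ∀ w ∈ cm (ρ x), polar Q u w = 0 := orth_fx_cm (h.iso x)
  have hnd := nondeg_cm h.nondeg (h.iso x) h.rd.ne0 (h.rpow hxr)
  obtain ⟨v₁, hv₁, -, hv₁c⟩ := h.uni (cm (ρ x)) hnd (by omega) c
  obtain ⟨w, hw, -, hwc⟩ := h.uni (cm (ρ x)) hnd (by omega) (c - Q u₀)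
  have hv₂c : Q (u₀ + w) = c := by
    rw [Q_add, hwc, horth u₀ hu₀ w hw]
    ring
  obtain ⟨a, ha, hav⟩ := h.tr v₁ (u₀ + w) hv₁c hv₂c
  obtain ⟨u₁, hu₁, hu₁a⟩ := inv_surj (h.injE a) (hinv a ha) hu₀
  have h3 : polar Q u₀ (ρ a v₁) = 0 := by
    rw [← hu₁a, polar_isom (h.iso a)]
    exact horth u₁ hu₁ v₁ hv₁
  have h4 : polar Q u₀ (u₀ + w) = 0 := by
    rcases hav with h5 | h5
    · rwa [h5] at h3
    · rw [h5, polar_neg_right, neg_eq_zero] at h3
      exact h3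
  rw [polar_add_right, horth u₀ hu₀ w hw, add_zero] at h4
  exact hu₀p h4

end Cfsg.Agent.H899.Pt
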