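import Cfsg.Agent.H899.Pt.RowSp
import Cfsg.Agent.H899.Pt.Fin

/-!
# The rows `Ω_2m+1(q)`, `PΩ⁺_2m(q)`, `m ≥ 6` even, `M` almost simple (helper899, S3679)
-/

set_option autoImplicit false
set_option linter.unusedVariables false

namespace Cfsg.Agent.H899.Pt

open Module QuadraticMap Cfsg Cfsg.Agent.H884.Cg Cfsg.Agent.H955 Cfsg.Agent.LieClassical.OrthCore
open Cfsg.Agent.LieClassical Cfsg.Agent.LieClassical.OmegaReindex Cfsg.Agent.H899.CG Cfsg.Agent.H436
open Cfsg.Agent.OrdDiv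
open Cfsg.Agent.H57.BG (AS)
open Cfsg.Agent.H915.GN
open Cfsg.Agent.H884.El (PP)
open Cfsg.Agent.H946.DK (end_ominus end_plus Big)

section Gen

variable {ι : Type} [Fintype ι] [DecidableEq ι] {F : Type} [Field F] [Fintype F] {Q : QuadraticForm F (ι → F)}
variable {m : ℕ} {S : Type*} [Group S] [Finite S] {l : ℕ} {A M : Subgroup (POmega F (⇑Q))}

theorem cast_ne_zero {F : Type*} [Field F] [Fintype F] {s : ℕ} (hs : s.Prime) (hsq : ¬ s ∣ Fintype.card F) :
    (s : F) ≠ 0 := by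
  intro h1
  apply hsq
  obtain ⟨p', hp'⟩ := CharP.exists F
  obtain ⟨k, hpp', hk⟩ := FiniteField.card F p'
  have h2 : p' ∣ s := (CharP.cast_eq_zero_iff F p' s).1 h1
  have h3 : p' = s := (Nat.prime_dvd_prime_iff_eq hpp' hs).1 h2
  rw [hk, ← h3]
  exact dvd_pow_self _ k.ne_zero

theorem polar_nd (hQ : Nondeg Q) (u : ι → F) (hu : u ≠ 0) : ∃ v, polarBilin Q u v ≠ 0 := by
  obtain ⟨v, hv⟩ := hQ.exists_polar_ne hu
  exact ⟨v, hv⟩

theorem omega_sc (hD : H390.Lift.Data Q) (k : Omega F (⇑Q))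
    (hk : k ∈ (QuotientGroup.mk' (Subgroup.center (Omega F (⇑Q)))).ker) : ∃ c : F, rep (⇑Q) k = c • 1 := by
  have h1 : k ∈ Subgroup.center (Omega F (⇑Q)) := (QuotientGroup.eq_one_iff k).1 (MonoidHom.mem_ker.1 hk)
  rcases (OmegaCenter.mem_center_omega_iff Q hD.nd hD.dim hD.iso k).1 h1 with h2 | h2
  · refine ⟨1, ?_⟩
    show Matrix.toLin' (OmegaCenter.omegaMat k) = _
    rw [h2, Matrix.toLin'_one, one_smul]
    rfl
  · refine ⟨-1, ?_⟩
    show Matrix.toLin' (OmegaCenter.omegaMat k) = _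
    rw [h2, map_neg, Matrix.toLin'_one]
    apply LinearMap.ext
    intro v
    rw [LinearMap.smul_apply, LinearMap.neg_apply, Module.End.one_apply, neg_smul, one_smul]
    rfl

theorem polar_add_l (Q : QuadraticForm F (ι → F)) (u v w : ι → F) :
    polarBilin Q (u + v) w = polarBilin Q u w + polarBilin Q v w := by
  rw [map_add, LinearMap.add_apply]

theorem polar_add_r (Q : QuadraticForm F (ι → F)) (u v w : ι → F) :
    polarBilin Q w (u + v) = polarBilin Q w u + polarBilin Q w v := map_add _ _ _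

theorem false_ominus_as (hD : H390.Lift.Data Q) (hQ : Nondeg Q) (hm : 6 ≤ m) (hme : Even m)
    (hexc : ¬ (Fintype.card F = 2 ∧ m = 6)) (hS : IsSimpleGroup S)
    (hSna : ¬ IsMulCommutative S) (hM : AS (.ominus m (Fintype.card F)) M) (hc1 : 2 * m ≤ Fintype.card ι)
    (hc2 : Fintype.card ι ≤ 2 * m + 1) (hcard : Nat.gcd 2 (Fintype.card F - 1) * Nat.card (POmega F (⇑Q)) =
      Fintype.card F ^ (m ^ 2) * prB (Fintype.card F) m) : ¬ Fac (POmega F (⇑Q)) A M S l := by
  intro hF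
  have hfin : Finite (POmega F (⇑Q)) := Quotient.finite _
  obtain ⟨p, f, r, hp, hf, hq, hr⟩ := exists_r (F := F) (m := m) (by omega) hme hexc
  have hpp : PP (Nat.card F) m r := pp_of_prim hq hf hr
  have h := env_omega hD (by omega) hpp hc2
  have h0 := conj0_omega hQ (by omega) hme hpp hc1
  rw [hq] at hM hcard
  have hno := (H884.Mx.partC hp hf (Or.inl rfl) hM hme (by omega) hr).2
  obtain ⟨s, hs, hord, hsq, x, z, hxM, -, hx, hz, hc⟩ := H884.Mx.partB hp hf (Or.inl rfl) hM hme hm hr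
  obtain ⟨x, hxM, hxr, hx1, hxd⟩ := h.hasType_beta (polarBilin Q) (polar_nd hQ) omega_iso hxM hx hs
    (cast_ne_zero hs (by rw [hq]; exact hsq)) (by rw [hq]; exact hord) hz hc
  exact end_ominus h hSna hF hp hf hq (by omega) hme hr hM hcard (omega_sc hD) (B := fun u v => polarBilin Q u v)
    (polar_add_l Q) (polar_add_r Q) (polar_nd hQ) omega_iso (h.fin_type h0 hF hno hxM hxr hx1 hxd)
    (h.fin_no h0 hF hno hxM hxr hx1 hxd)

theorem false_plus_as (hD : H390.Lift.Data Q) (hQ : Nondeg Q) (hm : 6 ≤ m) (hme : Even m)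
    (hexc : ¬ (Fintype.card F = 2 ∧ m = 6)) (hS : IsSimpleGroup S)
    (hSna : ¬ IsMulCommutative S)
    (hM : AS (.psp (m - 1) (Fintype.card F)) M ∨ AS (.oodd (m - 1) (Fintype.card F)) M) (hc1 : 2 * m ≤ Fintype.card ι)
    (hc2 : Fintype.card ι ≤ 2 * m + 1) (hcard : Nat.gcd 4 (Fintype.card F ^ m - 1) * Nat.card (POmega F (⇑Q)) =
      Fintype.card F ^ (m * (m - 1)) * ((Fintype.card F ^ m - 1) * prB (Fintype.card F) (m - 1))) :
    ¬ Fac (POmega F (⇑Q)) A M S l := by
  intro hF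
  have hfin : Finite (POmega F (⇑Q)) := Quotient.finite _
  obtain ⟨p, f, r, hp, hf, hq, hr⟩ := exists_r (F := F) (m := m) (by omega) hme hexc
  have hpp : PP (Nat.card F) m r := pp_of_prim hq hf hr
  have h := env_omega hD (by omega) hpp hc2
  have h0 := conj0_omega hQ (by omega) hme hpp hc1
  rw [hq] at hM hcard
  have hno : NoSq M r := by
    rcases hM with hM | hM
    · exact (H884.Mx.partC hp hf (Or.inr (Or.inl rfl)) hM hme (by omega) hr).2
    · exact (H884.Mx.partC hp hf (Or.inr (Or.inr rfl)) hM hme (by omega) hr).2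
  obtain ⟨s, hs, hord, hsq, x, z, hxM, -, hx, hz, hc⟩ : ∃ s : ℕ, s.Prime ∧ ¬ orderOf ((p ^ f : ℕ) : ZMod s) ∣ m ∧
      ¬ s ∣ p ^ f ∧ ∃ x z : POmega F (⇑Q), x ∈ M ∧ z ∈ M ∧ orderOf x = r ∧ orderOf z = s ∧ x * z = z * x := by
    rcases hM with hM | hM
    · exact H884.Mx.partB hp hf (Or.inr (Or.inl rfl)) hM hme hm hr
    · exact H884.Mx.partB hp hf (Or.inr (Or.inr rfl)) hM hme hm hr
  obtain ⟨x, hxM, hxr, hx1, hxd⟩ := h.hasType_beta (polarBilin Q) (polar_nd hQ) omega_iso hxM hx hs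
    (cast_ne_zero hs (by rw [hq]; exact hsq)) (by rw [hq]; exact hord) hz hc
  exact end_plus h hSna hF hp hf hq (by omega) hme hr hM hcard (omega_sc hD) (B := fun u v => polarBilin Q u v)
    (polar_add_l Q) (polar_add_r Q) (polar_nd hQ) omega_iso (h.fin_type h0 hF hno hxM hxr hx1 hxd)
    (h.fin_no h0 hF hno hxM hxr hx1 hxd)

end Gen

section Std

variable {F : Type} [Field F] [Fintype F] {m : ℕ} {S : Type*} [Group S] [Finite S] {l : ℕ}

theorem two_ne_zero_of_odd (hodd : Odd (Fintype.card F)) : (2 : F) ≠ 0 := by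
  intro h2
  have hch : CharP F 2 := CharTwo.of_one_ne_zero_of_two_eq_zero one_ne_zero h2
  obtain ⟨n, -, hn⟩ := FiniteField.card F 2
  rw [hn] at hodd
  exact (Nat.not_odd_iff_even.2 ((Nat.even_pow' n.ne_zero).2 even_two)) hodd

theorem not_fac_oodd_as (hodd : Odd (Fintype.card F)) (hm : 6 ≤ m) (hme : Even m) (hS : IsSimpleGroup S)
    (hSna : ¬ IsMulCommutative S) {A M : Subgroup (POmega F (quadFormOdd m F))}
    (hM : AS (.ominus m (Fintype.card F)) M) : ¬ Fac (POmega F (quadFormOdd m F)) A M S l := by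
  have h2 := two_ne_zero_of_odd hodd
  have key : Nat.gcd 2 (Fintype.card F - 1) * Nat.card (POmega F (⇑(quadOdd m F))) =
      Fintype.card F ^ (m ^ 2) * prB (Fintype.card F) m → ∀ A M : Subgroup (POmega F (⇑(quadOdd m F))),
      AS (.ominus m (Fintype.card F)) M → ¬ Fac (POmega F (⇑(quadOdd m F))) A M S l :=
    fun hcard A M hM => false_ominus_as (H884.El.data_odd (by omega) h2) (nondeg_iff.2 (quadOdd_nondegenerate h2)) hm hme
      (by
        rintro ⟨h, -⟩
        rw [h] at hodd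
        exact absurd hodd (by decide)) hS hSna hM (by rw [H884.El.card_odd m]; omega) (H884.El.card_odd m).le hcard
  rw [coe_quadOdd] at key
  refine key ?_ A M hM
  have h3 : Nat.gcd 2 (Fintype.card F - 1) = 2 := Nat.gcd_eq_left (Nat.Odd.sub_odd hodd odd_one).two_dvd
  rw [h3]
  exact H436.oodd_eq (m := m) (by omega) hodd

theorem not_fac_oplus_as (hm : 6 ≤ m) (hme : Even m) (hexc : ¬ (Fintype.card F = 2 ∧ m = 6)) (hS : IsSimpleGroup S)
    (hSna : ¬ IsMulCommutative S) {A M : Subgroup (POmega F (quadFormPlus m F))}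
    (hM : AS (.psp (m - 1) (Fintype.card F)) M ∨ AS (.oodd (m - 1) (Fintype.card F)) M) :
    ¬ Fac (POmega F (quadFormPlus m F)) A M S l := by
  have key : Nat.gcd 4 (Fintype.card F ^ m - 1) * Nat.card (POmega F (⇑(quadPlus m F))) =
      Fintype.card F ^ (m * (m - 1)) * ((Fintype.card F ^ m - 1) * prB (Fintype.card F) (m - 1)) →
      ∀ A M : Subgroup (POmega F (⇑(quadPlus m F))),
      (AS (.psp (m - 1) (Fintype.card F)) M ∨ AS (.oodd (m - 1) (Fintype.card F)) M) →
      ¬ Fac (POmega F (⇑(quadPlus m F))) A M S l :=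
    fun hcard A M hM => false_plus_as (H884.El.data_plus (by omega)) (nondeg_iff.2 quadPlus_nondegenerate) hm hme
      hexc hS hSna hM (by rw [H884.El.card_plus m]) (by rw [H884.El.card_plus m]; omega) hcard
  rw [coe_quadPlus] at key
  exact key (H436.oplus_eq (m := m) (by omega)) A M hM

end Std

end Cfsg.Agent.H899.Pt
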