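import Cfsg.Agent.H899.Pt.Beta
import Cfsg.Agent.H946.DK.End
import Cfsg.Agent.H884.Mx.Comm
import Cfsg.Agent.H884.Mx.Four
import Cfsg.Agent.H884.Mx.NoSq

/-!
# The row `PSp_2m(q)`, `m ≥ 4` even, `M` almost simple (helper899, S3679)
-/

set_option autoImplicit false
set_option linter.unusedVariables false

namespace Cfsg.Agent.H899.Pt

open Module Cfsg Cfsg.Agent.H951 Cfsg.Agent.H884.Cg Cfsg.Agent.H899.CG Cfsg.Agent.H436
open Cfsg.Agent.OrdDiv
open Cfsg.Agent.H57.BG (AS repS)
open Cfsg.Agent.H915.GN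
open Cfsg.Agent.H884.El (PP)
open Cfsg.Agent.ClassicalGeometry.SympBasic
open Cfsg.Agent.H946.DK (end_ominus end_plus Big)

/-- the primitive prime -/
theorem exists_r {F : Type*} [Field F] [Fintype F] {m : ℕ} (hm : 4 ≤ m) (hme : Even m)
    (hexc : ¬ (Fintype.card F = 2 ∧ m = 6)) :
    ∃ p f r, p.Prime ∧ 1 ≤ f ∧ Fintype.card F = p ^ f ∧ Prim p (m * f) r := by
  obtain ⟨p, f, hp, hf, h⟩ := (isPrimePow_nat_iff _).1 (Fintype.isPrimePow_card_of_field (α := F))
  obtain ⟨r, hr⟩ := exists_prim (q := p) (e := m * f) hp.two_le (by nlinarith) (by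
    rintro ⟨rfl, h6⟩
    apply hexc
    have hf1 : f = 1 := by
      by_contra hne
      have : m * 2 ≤ m * f := Nat.mul_le_mul_left m (by omega)
      omega
    subst hf1
    exact ⟨by rw [← h, pow_one], by omega⟩)
  exact ⟨p, f, r, hp, by omega, h.symm, hr⟩

section PSp

variable {F : Type} [Field F] [Fintype F] {m : ℕ} {S : Type*} [Group S] [Finite S] {l : ℕ} {A M : Subgroup (PSp m F)}

theorem card_psp' (hm : 3 ≤ m) : Nat.gcd 2 (Fintype.card F - 1) * Nat.card (PSp m F) =
    Fintype.card F ^ (m ^ 2) * prB (Fintype.card F) m :=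
  H436.psp_eq (by omega)

theorem not_fac_psp_as (hm : 4 ≤ m) (hme : Even m) (hexc : ¬ (Fintype.card F = 2 ∧ (m = 4 ∨ m = 6)))
    (hS : IsSimpleGroup S)
    (hSna : ¬ IsMulCommutative S) (hM : AS (.ominus m (Fintype.card F)) M) : ¬ Fac (PSp m F) A M S l := by
  intro hF
  have hfin : Finite (PSp m F) := Quotient.finite _
  obtain ⟨p, f, r, hp, hf, hq, hr⟩ := exists_r (F := F) hm hme (fun h => hexc ⟨h.1, Or.inr h.2⟩)
  have hpp : PP (Nat.card F) m r := pp_of_prim hq hf hr
  have h := env_psp (by omega) hpp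
  have h0 := conj0_psp (by omega) hpp
  have hcard := card_psp' (F := F) (m := m) (by omega)
  rw [hq] at hM hcard
  have hno := (H884.Mx.partC hp hf (Or.inl rfl) hM hme hm hr).2
  have hsc : ∀ k ∈ (QuotientGroup.mk' (Subgroup.center (Matrix.symplecticGroup (Fin m) F))).ker,
      ∃ c : F, repS m F k = c • 1 := by
    intro k hk
    rcases sp_pm (by omega) (MonoidHom.mem_ker.1 hk) with h1 | h1
    · exact ⟨1, by rw [h1, one_smul]⟩
    · refine ⟨-1, ?_⟩
      rw [h1]
      apply LinearMap.ext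
      intro v
      rw [LinearMap.smul_apply, LinearMap.neg_apply, Module.End.one_apply, neg_smul, one_smul]
  have fin : HasType (QuotientGroup.mk' (Subgroup.center (Matrix.symplecticGroup (Fin m) F))) (repS m F) r m M →
      False := by
    rintro ⟨x, hxM, hxr, hx1, hxd⟩
    exact end_ominus h hSna hF hp hf hq hm hme hr hM hcard hsc (B := fun u v => sympBilin m F u v)
      (fun u v w => sympForm_add_left u v w) (fun u v w => sympForm_add_right w u v) sp_nd sp_iso (h.fin_type h0 hF hno hxM hxr hx1 hxd)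
      (h.fin_no h0 hF hno hxM hxr hx1 hxd)
  by_cases h6 : 6 ≤ m
  · obtain ⟨s, hs, hord, hsq, x, z, hxM, -, hx, hz, hc⟩ := H884.Mx.partB hp hf (Or.inl rfl) hM hme h6 hr
    refine fin (h.hasType_beta (sympBilin m F) sp_nd sp_iso hxM hx hs ?_ (by rw [hq]; exact hord) hz hc)
    intro h1
    apply hsq
    obtain ⟨p', hp'⟩ := CharP.exists F
    obtain ⟨k, hpp', hk⟩ := FiniteField.card F p'
    have h2 : p' ∣ s := (CharP.cast_eq_zero_iff F p' s).1 h1
    have h3 : p' = s := (Nat.prime_dvd_prime_iff_eq hpp' hs).1 h2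
    rw [← hq, hk, ← h3]
    exact dvd_pow_self _ k.ne_zero
  · obtain rfl : m = 4 := by
      obtain ⟨k, hk⟩ := hme
      omega
    by_cases h2 : (2 : F) = 0
    · have hp2 : p = 2 := by
        have hch : CharP F 2 := CharTwo.of_one_ne_zero_of_two_eq_zero one_ne_zero h2
        obtain ⟨k, -, hk⟩ := FiniteField.card F 2
        rw [hq] at hk
        have : p ∣ 2 ^ (k : ℕ) := by rw [← hk]; exact dvd_pow_self p (by omega)
        exact (Nat.prime_dvd_prime_iff_eq hp Nat.prime_two).1 (hp.dvd_of_dvd_pow this)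
      subst hp2
      have hf2 : 2 ≤ f := by
        by_contra hlt
        obtain rfl : f = 1 := by omega
        exact hexc ⟨by rw [hq, pow_one], Or.inl rfl⟩
      obtain ⟨u, hu, hu2, -, hun, x, w₁, w₂, hxM, -, -, hx, h₁, h₂, hc₁, hc₂, h12, hno'⟩ := H884.Mx.partB4 hf2 hM hr
      exact fin (h.hasType_sq (sympBilin 4 F) sp_nd sp_iso hme hxM hx hu hu2 (by rw [hq]; exact hun) h₁ h₂ hc₁ hc₂ h12
        hno')
    · have hty : ∀ S₁ S₂ : Subgroup (PSp 4 F), TwoFac A S₁ S₂ → r ∣ Nat.card S₁ → r ∣ Nat.card S₂ →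
          ∀ z, QuotientGroup.mk' (Subgroup.center (Matrix.symplecticGroup (Fin 4) F)) z ∈ S₁ ∨
            QuotientGroup.mk' (Subgroup.center (Matrix.symplecticGroup (Fin 4) F)) z ∈ S₂ →
            z ^ r = 1 → z ≠ 1 → finrank F (cm (repS 4 F z)) = 2 * 4 := by
        intro S₁ S₂ hT hd₁ hd₂
        rcases h.dich hT hd₁ hd₂ with h3 | h3
        · exfalso
          have hFr := Fact.mk h.rd.prime
          obtain ⟨x₀, hx₀⟩ := exists_prime_orderOf_dvd_card' r hd₂
          obtain ⟨x, hx, hxr, hx1⟩ := h.lift_ne (t := (x₀ : PSp 4 F)) (by rw [Subgroup.orderOf_coe, hx₀])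
          obtain ⟨y₀, hy₀⟩ := exists_prime_orderOf_dvd_card' r hd₁
          obtain ⟨y, hy, hyr, hy1⟩ := h.lift_ne (t := (y₀ : PSp 4 F)) (by rw [Subgroup.orderOf_coe, hy₀])
          have hxS : QuotientGroup.mk' (Subgroup.center (Matrix.symplecticGroup (Fin 4) F)) x ∈ S₂ := by
            rw [hx]; exact x₀.2
          have hyS : QuotientGroup.mk' (Subgroup.center (Matrix.symplecticGroup (Fin 4) F)) y ∈ S₁ := by
            rw [hy]; exact y₀.2
          exact h.no_sp4 rfl finrank_sp h2 hT sympBilin_nondegenerate sympBilin_isAlt sp_iso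
            (fun k hk => sp_pm (by norm_num) hk) hxS hxr (h3 x (Or.inr hxS) hxr hx1) hyS hyr hy1
        · exact h3
      refine end_ominus h hSna hF hp hf hq hm hme hr hM hcard hsc (B := fun u v => sympBilin 4 F u v)
        (fun u v w => sympForm_add_left u v w) (fun u v w => sympForm_add_right w u v) sp_nd sp_iso hty
        (h.full_no hF hno finrank_sp (fun u hu => sympBilin_nondegenerate.1 u hu) (fun u v huv => ?_) sp_iso sp_full hty)
      have e1 : sympBilin 4 F v u = - sympBilin 4 F u v := sympForm_swap _ _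
      rw [e1, huv, neg_zero]

end PSp

end Cfsg.Agent.H899.Pt
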